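import Cfsg.Agent.MK.Sp2.Wey_m3
import Cfsg.Agent.MK.T.D_m3
import Cfsg.Agent.S0188
import Cfsg.Agent.HKS.CosetTwo
import Cfsg.Agent.S0145
import Cfsg.Agent.LFourA.AltPsiAut
import Cfsg.Agent.S2119
import Cfsg.Agent.Lib.FastPerm
import Cfsg.Agent.H699.OverLin
import Cfsg.Agent.FastGrp
import Cfsg.Agent.Prune
set_option linter.all false

-- part: MK/A/Prod
section
set_option linter.all false
open scoped Cfsg.Agent.FastGrp

/-!
# MK, alternating groups: direct products, their subgroups of index two, extensions by a flip (helper42)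

* `k0_prod`, `f0_flip` : the counts for `G × H` and for the flip of `G × G`;
* `k0_half`, `f0_half` : the same for the subgroup `{(a, b) | a ∈ D ↔ b ∈ E}`;
* `m0_of_odd` : the equality from a subgroup of odd index; `exists_ext` : the extension by an involution.
-/

set_option autoImplicit false
set_option maxHeartbeats 400000

namespace Cfsg.Agent.MK.A

open Cfsg Subgroup Cfsg.Agent.Characters.Core Cfsg.Agent.MK.T Cfsg.Agent.HKS.CosetTwo Cfsg.Agent.QTNorm
open Cfsg.Agent.Blocks.Basic (charDegree_of_eq)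

variable {G H : Type} [Group G] [Group H]

theorem k0_def : k0 G = Nat.card {χ : G → ℂ // OI G χ} := rfl

theorem f0_def (α : MulAut G) : f0 α = Nat.card {χ : G → ℂ // OI G χ ∧ ∀ x, χ (α x) = χ x} := rfl

theorem oi_def (χ : G → ℂ) : OI G χ ↔ IsIrrCharacter G χ ∧ Odd (charDegree χ) := Iff.rfl

theorem deg_prod {φ : G → ℂ} {ψ : H → ℂ} (hφ : IsIrrCharacter G φ) (hψ : IsIrrCharacter H ψ) :
    charDegree (fun x : G × H => φ x.1 * ψ x.2) = charDegree φ * charDegree ψ :=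
  charDegree_of_eq (by
    show φ 1 * ψ 1 = _
    rw [deg_eq hφ, deg_eq hψ, Nat.cast_mul])

theorem eq_of_prop [Finite G] {φ ψ : G → ℂ} (hφ : IsIrrCharacter G φ) (hψ : IsIrrCharacter G ψ) {c e : ℂ} (hc : c ≠ 0)
    (h : ∀ g, φ g * c = ψ g * e) : φ = ψ := by
  have := Fintype.ofFinite G
  by_contra hne
  have h1 : c • φ = e • ψ := funext fun g => by
    rw [Pi.smul_apply, Pi.smul_apply, smul_eq_mul, smul_eq_mul, mul_comm, h, mul_comm]
  have h2 := congrArg (fun f => classInner f φ) h1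
  simp only [classInner_smul_left] at h2
  rw [classInner_irr_self hφ, classInner_irr_ne hψ hφ (Ne.symm hne), mul_one, mul_zero] at h2
  exact hc h2

theorem eq_or_sg [Finite G] {D : Subgroup G} (hD : D.index = 2) {φ ψ : G → ℂ} (hφ : IsIrrCharacter G φ)
    (hψ : IsIrrCharacter G ψ) {c e : ℂ} (hc : c ≠ 0) (h : ∀ g ∈ D, ψ g * c = φ g * e) :
    ψ = φ ∨ ψ = φ * sg hD := by
  have := Fintype.ofFinite G
  by_contra hne
  rw [not_or] at hne
  have h1 : c • (ψ + ψ * sg hD) = e • (φ + φ * sg hD) := funext fun g => by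
    show c * (ψ g + ψ g * sg hD g) = e * (φ g + φ g * sg hD g)
    by_cases hg : g ∈ D
    · rw [sg_of_mem hD hg]
      linear_combination 2 * h g hg
    · rw [sg_of_notMem hD hg]
      ring
  have h2 : classInner (c • (ψ + ψ * sg hD)) ψ = classInner (e • (φ + φ * sg hD)) ψ := by rw [h1]
  rw [classInner_smul_left, classInner_smul_left, classInner_add_left, classInner_add_left, classInner_irr_self hψ, classInner_irr_ne hφ hψ (Ne.symm hne.1),
    classInner_irr_ne (isIrr_mul_sg hD hφ) hψ (Ne.symm hne.2), add_zero, mul_zero] at h2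
  by_cases h3 : ψ * sg hD = ψ
  · rw [h3, classInner_irr_self hψ] at h2
    exact hc (by linear_combination h2 / 2)
  · rw [classInner_irr_ne (isIrr_mul_sg hD hψ) hψ h3] at h2
    exact hc (by linear_combination h2)

theorem oi_mul_sg [Finite G] {D : Subgroup G} (hD : D.index = 2) {φ : G → ℂ} (h : OI G φ) : OI G (φ * sg hD) :=
  ⟨isIrr_mul_sg hD h.1, by
    rw [charDegree_of_eq (χ := φ * sg hD) (n := charDegree φ) (by
      rw [Pi.mul_apply, sg_of_mem hD (one_mem D), mul_one, deg_eq h.1])]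
    exact h.2⟩

theorem ne_mul_sg [Finite G] {D : Subgroup G} (hD : D.index = 2) {φ : G → ℂ} (h : OI G φ) : φ ≠ φ * sg hD := fun e =>
  not_van hD h fun g hg => by
    have h1 := congrFun e g
    rw [Pi.mul_apply, sg_of_notMem hD hg] at h1
    linear_combination h1 / 2

section prod

variable [Finite G] [Finite H]

theorem card_prod (p : (G × H → ℂ) → Prop) : Nat.card {χ : G × H → ℂ // OI (G × H) χ ∧ p χ} =
    Nat.card {x : (G → ℂ) × (H → ℂ) // (OI G x.1 ∧ OI H x.2) ∧ p fun y => x.1 y.1 * x.2 y.2} := by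
  refine (Nat.card_congr (Equiv.ofBijective (fun x => ⟨fun y => x.1.1 y.1 * x.1.2 y.2,
    ⟨S0188.isIrr_outer x.2.1.1.1 x.2.1.2.1, deg_prod x.2.1.1.1 x.2.1.2.1 ▸ x.2.1.1.2.mul x.2.1.2.2⟩, x.2.2⟩)
    ⟨fun a b e => ?_, fun ⟨χ, h1, h2⟩ => ?_⟩)).symm
  · have h1 : ∀ g h, a.1.1 g * a.1.2 h = b.1.1 g * b.1.2 h := fun g h => congrFun (congrArg Subtype.val e) (g, h)
    exact Subtype.ext (Prod.ext (eq_of_prop a.2.1.1.1 b.2.1.1.1 a.2.1.2.one_ne fun g => h1 g 1)
      (eq_of_prop a.2.1.2.1 b.2.1.2.1 a.2.1.1.one_ne fun g => by rw [mul_comm, mul_comm (b.1.2 g)]; exact h1 1 g))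
  · obtain ⟨φ, ψ, hφ, hψ, rfl⟩ := (S0188.result χ).1 h1.1
    have h3 := h1.2
    rw [deg_prod hφ hψ, Nat.odd_mul] at h3
    exact ⟨⟨(φ, ψ), ⟨⟨hφ, h3.1⟩, hψ, h3.2⟩, h2⟩, rfl⟩

theorem k0_prod : k0 (G × H) = k0 G * k0 H := by
  rw [← k0_eq_of (p := fun _ => True) fun _ _ => trivial, card_prod, k0_def, k0_def, ← Nat.card_prod]
  exact Nat.card_congr ⟨fun x => (⟨x.1.1, x.2.1.1⟩, ⟨x.1.2, x.2.1.2⟩), fun x => ⟨(x.1.1, x.2.1), ⟨x.1.2, x.2.2⟩, trivial⟩,
    fun _ => rfl, fun _ => rfl⟩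

theorem f0_flip {β : MulAut (G × G)} (h : ∀ x, β x = (x.2, x.1)) : f0 β = k0 G := by
  rw [f0_def, card_prod, k0_def]
  refine Nat.card_congr (Equiv.ofBijective (fun x => ⟨x.1.1, x.2.1.1⟩) ⟨fun a b e => ?_, fun φ => ?_⟩)
  · have k : ∀ x : {x : (G → ℂ) × (G → ℂ) // (OI G x.1 ∧ OI G x.2) ∧
        ∀ y, x.1 (β y).1 * x.2 (β y).2 = x.1 y.1 * x.2 y.2}, x.1.2 = x.1.1 := fun x =>
      eq_of_prop x.2.1.2.1 x.2.1.1.1 x.2.1.1.one_ne (e := x.1.2 1) fun g => by
        have h1 := x.2.2 (g, 1)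
        rw [h] at h1
        rw [mul_comm]
        exact h1
    have h1 : a.1.1 = b.1.1 := congrArg Subtype.val e
    exact Subtype.ext (Prod.ext h1 ((k a).trans (h1.trans (k b).symm)))
  · exact ⟨⟨(φ.1, φ.1), ⟨φ.2, φ.2⟩, fun y => by rw [h]; exact mul_comm _ _⟩, rfl⟩

variable {D : Subgroup G} {E : Subgroup H} {N : Subgroup (G × H)}

omit [Finite G] [Finite H] in
theorem index_half (hD : D.index = 2) (hN : ∀ x, x ∈ N ↔ (x.1 ∈ D ↔ x.2 ∈ E)) : N.index = 2 := by
  obtain ⟨a, ha⟩ := index_eq_two_iff.1 hD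
  refine index_eq_two_iff.2 ⟨(a, 1), fun b => ?_⟩
  have h1 := ha b.1
  rw [hN, hN, Prod.fst_mul, Prod.snd_mul, mul_one]
  unfold Xor at h1 ⊢
  tauto

theorem not_vn_half (hD : D.index = 2) (hE : E.index = 2) (hN : ∀ x, x ∈ N ↔ (x.1 ∈ D ↔ x.2 ∈ E)) (χ : G × H → ℂ) :
    ¬ Vn N χ := by
  rintro ⟨h1, h2, h3⟩
  obtain ⟨φ, ψ, hφ, hψ, rfl⟩ := (S0188.result χ).1 h1
  have k1 : ¬ Odd (charDegree φ) := fun h => not_van hD ⟨hφ, h⟩ fun g hg =>
    (mul_eq_zero.1 (h2 (g, 1) fun e => hg (((hN _).1 e).2 (one_mem E)))).resolve_right (isIrr_apply_one_ne_zero hψ)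
  have k2 : ¬ Odd (charDegree ψ) := fun h => not_van hE ⟨hψ, h⟩ fun g hg =>
    (mul_eq_zero.1 (h2 (1, g) fun e => hg (((hN _).1 e).1 (one_mem D)))).resolve_left (isIrr_apply_one_ne_zero hφ)
  obtain ⟨a, ha⟩ := Nat.not_odd_iff_even.1 k1
  obtain ⟨b, hb⟩ := Nat.not_odd_iff_even.1 k2
  rw [deg_prod hφ hψ, ha, hb, show (a + a) * (b + b) = 4 * (a * b) by ring] at h3
  omega

omit [Finite H] in
/-- index two, if no character of odd degree of the subgroup is moved -/
theorem card_two_of {L : Subgroup G} (hL : L.index = 2) (h0 : ∀ χ, ¬ Vn L χ) {p : (G → ℂ) → Prop} {q : (L → ℂ) → Prop}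
    (h : ∀ χ θ, (∀ n : L, χ n = θ n) → (p χ ↔ q θ)) :
    Nat.card {χ // OI G χ ∧ p χ} = 2 * Nat.card {θ // OI L θ ∧ q θ} := by
  have := L.normal_of_index_eq_two hL
  have := Fintype.ofFinite G
  have := Fintype.ofFinite L
  have h1 := dc (L := L) (c := 1) (A' := fun χ => Odd (charDegree χ) ∧ p χ) (A := fun θ => Odd (charDegree θ) ∧ q θ)
    fun χ θ hχ hθ hc => by
      rcases H614.restrict_two L hL hχ hθ hc with h2 | h2
      · have h3 : charDegree χ = charDegree θ := charDegree_of_eq ((h2 1).trans (deg_eq hθ))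
        exact ⟨by rw [h3, h χ θ h2], fun _ => by rw [Nat.cast_one, one_mul]; exact h2 1⟩
      · have h3 : charDegree χ = 2 * charDegree θ := charDegree_of_eq (by rw [h2.1, deg_eq hθ]; norm_cast)
        have h4 : ¬ Odd (charDegree θ) := fun h5 => h0 χ ⟨hχ, h2.2, by have := Nat.odd_iff.1 h5; omega⟩
        exact ⟨iff_of_false (fun h5 => not_van hL ⟨hχ, h5.1⟩ h2.2) fun h5 => h4 h5.1, fun h5 => absurd h5.1 h4⟩
  rw [one_pow, one_mul, hL] at h1
  simpa only [oi_def, and_assoc] using h1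

theorem k0_half (hD : D.index = 2) (hE : E.index = 2) (hN : ∀ x, x ∈ N ↔ (x.1 ∈ D ↔ x.2 ∈ E)) :
    2 * k0 N = k0 G * k0 H := by
  rw [← k0_prod, ← k0_eq_of (p := fun _ => True) fun _ _ => trivial,
    ← k0_eq_of (G := G × H) (p := fun _ => True) fun _ _ => trivial,
    card_two_of (index_half hD hN) (not_vn_half hD hE hN) (q := fun _ => True) fun _ _ _ => Iff.rfl]

theorem f0_half {N : Subgroup (G × G)} (hD : D.index = 2) (hN : ∀ x, x ∈ N ↔ (x.1 ∈ D ↔ x.2 ∈ D)) {β : MulAut N}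
    (h : ∀ x, (β x : G × G) = (x.1.2, x.1.1)) : f0 β = k0 G := by
  refine Nat.eq_of_mul_eq_mul_left two_pos ?_
  have := finite_oi' (G := G)
  rw [f0_def, ← card_two_of (index_half hD hN) (not_vn_half hD hD hN) (p := fun χ => ∀ x : N, χ (x.1.2, x.1.1) = χ x)
    fun χ θ e => forall_congr' fun x => by rw [← h, e, e], card_prod, k0_def, two_mul, ← Nat.card_sum]
  have k : ∀ (φ : G → ℂ) (x : N), φ x.1.2 * (φ * sg hD) x.1.1 = φ x.1.1 * (φ * sg hD) x.1.2 := fun φ x => by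
    rw [Pi.mul_apply, Pi.mul_apply]
    by_cases hx : x.1.1 ∈ D
    · rw [sg_of_mem hD hx, sg_of_mem hD (((hN _).1 x.2).1 hx)]
      ring
    · rw [sg_of_notMem hD hx, sg_of_notMem hD fun e => hx (((hN _).1 x.2).2 e)]
      ring
  refine (Nat.card_congr (Equiv.ofBijective (Sum.elim (fun φ => ⟨(φ.1, φ.1), ⟨φ.2, φ.2⟩, fun x => mul_comm _ _⟩)
    fun φ => ⟨(φ.1, φ.1 * sg hD), ⟨φ.2, oi_mul_sg hD φ.2⟩, k φ.1⟩) ⟨?_, fun ⟨⟨φ, ψ⟩, h1, h2⟩ => ?_⟩)).symm
  · rintro (a | a) (b | b) e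
    · exact congrArg _ (Subtype.ext (congrArg (fun x => x.1.1) e))
    · exact absurd ((congrArg (fun x => x.1.1) e).symm.trans (congrArg (fun x => x.1.2) e)) (ne_mul_sg hD b.2)
    · exact absurd ((congrArg (fun x => x.1.1) e).trans (congrArg (fun x => x.1.2) e).symm) (ne_mul_sg hD a.2)
    · exact congrArg _ (Subtype.ext (congrArg (fun x => x.1.1) e))
  · rcases eq_or_sg hD h1.1.1 h1.2.1 h1.1.one_ne (e := ψ 1) fun g hg => by
      rw [mul_comm]
      exact h2 ⟨(g, 1), (hN _).2 (iff_of_true hg (one_mem D))⟩ with e | e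
    · exact ⟨Sum.inl ⟨φ, h1.1⟩, Subtype.ext (Prod.ext rfl e.symm)⟩
    · exact ⟨Sum.inr ⟨φ, h1.1⟩, Subtype.ext (Prod.ext rfl e.symm)⟩

end prod

/-- **a subgroup of odd index** -/
theorem m0_of_odd [Finite G] {n m : ℕ} (ih : IH n) (hS : SelfN G) (f : H →* G) (hf : Function.Injective f) (hm : Odd m)
    (hc : Nat.card G = m * Nat.card H) (hH : Nat.card H < n) (hk : k0 G = k0 H) : M0 G := by
  have := two_prime
  have : Finite H := Finite.of_injective f hf
  have h1 : f.range.index = m := by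
    have h2 := f.range.index_mul_card
    rw [hc, ← Nat.card_congr (MonoidHom.ofInjective hf).toEquiv] at h2
    exact Nat.eq_of_mul_eq_mul_right Nat.card_pos h2
  obtain ⟨S, hP⟩ := exists_sylow (P := ((default : Sylow 2 H) : Subgroup H).map f) ((default : Sylow 2 H).isPGroup'.map f)
    (by
      rw [index_map_of_injective _ hf, h1]
      exact (Nat.odd_iff.2 (Nat.two_dvd_ne_zero.1 (default : Sylow 2 H).not_dvd_index)).mul hm)
  exact m0_of_sub ih f hf hH S ((hS S).trans (hP ▸ map_le_range _ _)) hk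

/-- **the extension by an element which normalises the image** -/
theorem exists_ext [Finite G] (f : H →* G) (hf : Function.Injective f) {s : G} (hs : s ∉ f.range) (h2 : s * s ∈ f.range)
    {α : MulAut H} (hα : ∀ x, f (α x) = s * f x * s⁻¹) :
    ∃ W : Subgroup G, Nat.card W = 2 * Nat.card H ∧ k0 W = 2 * f0 α := by
  have k1 : ∀ g ∈ f.range, s * g * s⁻¹ ∈ f.range := by
    rintro _ ⟨x, rfl⟩
    exact ⟨_, hα x⟩
  have k2 : ∀ g ∈ f.range, s⁻¹ * g * s ∈ f.range := by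
    rintro _ ⟨x, rfl⟩
    obtain ⟨y, rfl⟩ := α.surjective x
    exact ⟨y, by rw [hα]; group⟩
  let W : Subgroup G :=
    { carrier := {g | g ∈ f.range ∨ g * s ∈ f.range}
      one_mem' := Or.inl (one_mem _)
      mul_mem' := by
        rintro a b (ha | ha) (hb | hb)
        · exact Or.inl (mul_mem ha hb)
        · exact Or.inr (mul_assoc a b s ▸ mul_mem ha hb)
        · exact Or.inr (by convert mul_mem ha (k2 _ hb) using 1; group)
        · exact Or.inl (by convert mul_mem (mul_mem ha (k2 _ hb)) (inv_mem h2) using 1; group)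
      inv_mem' := by
        rintro a (ha | ha)
        · exact Or.inl (inv_mem ha)
        · exact Or.inr (by convert mul_mem (k1 _ (inv_mem ha)) h2 using 1; group) }
  let j : H →* W := f.codRestrict W fun x => Or.inl ⟨x, rfl⟩
  have hj : Function.Injective j := fun _ _ e => hf (congrArg Subtype.val e)
  have hr : ∀ w : W, w ∈ j.range ↔ (w : G) ∈ f.range := fun w =>
    ⟨fun ⟨x, e⟩ => ⟨x, congrArg Subtype.val e⟩, fun ⟨x, e⟩ => ⟨x, Subtype.ext e⟩⟩
  have hi : j.range.index = 2 := by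
    refine index_eq_two_iff.2 ⟨⟨s, Or.inr h2⟩, fun b => ?_⟩
    rw [hr, hr]
    have h3 : ¬ ((b : G) * s ∈ f.range ∧ (b : G) ∈ f.range) := fun h => hs ((mul_mem_cancel_left h.2).1 h.1)
    have h4 : (b : G) ∈ f.range ∨ (b : G) * s ∈ f.range := b.2
    show Xor ((b : G) * s ∈ f.range) _
    unfold Xor
    tauto
  refine ⟨W, ?_, k0_index_two j hj hi (a := ⟨s, Or.inr h2⟩) (fun h => hs ((hr _).1 h)) fun x => Subtype.ext (hα x)⟩
  rw [← j.range.index_mul_card, hi, Nat.card_congr (MonoidHom.ofInjective hj).toEquiv]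

end Cfsg.Agent.MK.A
end

-- part: MK/A/Four
section
set_option linter.all false
open scoped Cfsg.Agent.FastGrp

/-!
# MK, alternating groups: an element of order four with a small centraliser (helper42)

* `rel_orth` : the column orthogonality over a central character;
* `four` : if `|C(u)| = 4 |Z|`, then four characters of odd degree lie over each character of `Z`;
* `exists_two` : the extension of degree two which is defined by `β ^ 2 = conj t`; `fix_two` : the fixed characters.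
-/

set_option autoImplicit false
set_option maxHeartbeats 400000

namespace Cfsg.Agent.MK.A

open Cfsg Subgroup Finset Cfsg.Agent.Characters.Core Cfsg.Agent.MK.T Cfsg.Agent.J3Type.CharTools
open scoped ComplexConjugate

variable {G : Type} [Group G]

theorem cen_mul [Finite G] {χ : G → ℂ} (hχ : IsIrrCharacter G χ) {z : G} (hz : z ∈ center G) (g : G) :
    χ (z * g) = χ z / χ 1 * χ g := by
  obtain ⟨c, h, -⟩ := ODD.Red.exists_central hχ hz
  have h1 := h 1
  rw [mul_one] at h1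
  rw [h, h1, mul_div_cancel_right₀ _ (isIrr_apply_one_ne_zero hχ)]

open scoped Classical in
theorem rel_orth [Finite G] [Fintype (IrrCharacter G)] {Z : Subgroup G} [Fintype Z] (hZ : Z ≤ center G) (m : Z →* ℂˣ)
    (a b : G) : (Nat.card Z : ℂ) * ∑ χ : IrrCharacter G,
      (if ∀ z : Z, (χ : G → ℂ) z = m z * (χ : G → ℂ) 1 then (χ : G → ℂ) a * conj ((χ : G → ℂ) b) else 0) =
      ∑ z : Z, ((m z)⁻¹ : ℂˣ) * if IsConj (z * a) b then (Nat.card (centralizer ({b} : Set G)) : ℂ) else 0 := by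
  have := Fintype.ofFinite G
  rw [Finset.sum_congr (s₁ := (univ : Finset Z)) rfl fun z _ => by rw [← S0145.sum_irr_mul_conj, Finset.mul_sum],
    Finset.sum_comm, Finset.mul_sum]
  refine Finset.sum_congr rfl fun χ _ => ?_
  have h0 := isIrr_apply_one_ne_zero χ.2
  let ω : Z →* ℂ :=
    { toFun := fun z => ((m z)⁻¹ : ℂˣ) * ((χ : G → ℂ) z / (χ : G → ℂ) 1)
      map_one' := by rw [map_one, inv_one, Units.val_one, one_mul, Subgroup.coe_one, div_self h0]
      map_mul' := fun x y => by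
        rw [map_mul, mul_inv, Units.val_mul, Subgroup.coe_mul, cen_mul χ.2 (hZ x.2)]
        ring }
  have h1 : ∑ z : Z, ((m z)⁻¹ : ℂˣ) * ((χ : G → ℂ) (z * a) * conj ((χ : G → ℂ) b)) =
      (∑ z : Z, ω z) * ((χ : G → ℂ) a * conj ((χ : G → ℂ) b)) := by
    rw [Finset.sum_mul]
    refine Finset.sum_congr rfl fun z _ => ?_
    rw [cen_mul χ.2 (hZ z.2)]
    show _ = ((m z)⁻¹ : ℂˣ) * ((χ : G → ℂ) z / (χ : G → ℂ) 1) * _
    ring
  have h2 : ∀ z : Z, ω z = 1 ↔ (χ : G → ℂ) z = m z * (χ : G → ℂ) 1 := fun z => by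
    show ((m z)⁻¹ : ℂˣ) * ((χ : G → ℂ) z / (χ : G → ℂ) 1) = 1 ↔ _
    rw [Units.inv_mul_eq_one, eq_div_iff h0, eq_comm]
  rw [h1]
  split_ifs with h
  · rw [Finset.sum_congr rfl fun z _ => (h2 z).2 (h z), Finset.sum_const, card_univ, nsmul_eq_mul, mul_one,
      Nat.card_eq_fintype_card]
  · rw [sum_hom_units_eq_zero ω fun e => h fun z => (h2 z).1 (by rw [e]; rfl), zero_mul, mul_zero]

theorem four_aux {ι : Type} [Fintype ι] [DecidableEq ι] (s : Finset ι) (v : ι → ℤ) (d : ι → ℂ) (hd : ∀ i, d i ≠ 0)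
    (h1 : ∑ i ∈ s, v i * v i = 4) (h2 : ∑ i ∈ s, v i * d i = 0) : (s.filter fun i => Odd (v i)).card = 4 := by
  have h3 : ∀ i ∈ s, v i * v i ≤ 1 := fun i hi => by
    by_contra h
    have h4 : 4 ≤ v i * v i := by
      rcases lt_trichotomy (v i) 0 with h5 | h5 | h5
      · have : v i ≤ -2 := by
          by_contra h6
          obtain h7 : v i = -1 := by omega
          rw [h7] at h
          omega
        nlinarith
      · rw [h5] at h
        omega
      · have : 2 ≤ v i := by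
          by_contra h6
          obtain h7 : v i = 1 := by omega
          rw [h7] at h
          omega
        nlinarith
    rw [← Finset.add_sum_erase _ _ hi] at h1 h2
    have h5 : ∀ j ∈ s.erase i, 0 ≤ v j * v j := fun j _ => mul_self_nonneg _
    have h6 := (Finset.sum_eq_zero_iff_of_nonneg h5).1 (le_antisymm (by omega) (Finset.sum_nonneg h5))
    rw [Finset.sum_eq_zero fun j hj => by rw [mul_self_eq_zero.1 (h6 j hj), Int.cast_zero, zero_mul], add_zero,
      mul_eq_zero, Int.cast_eq_zero] at h2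
    rw [h2.resolve_right (hd i)] at h4
    omega
  rw [Finset.sum_congr rfl (g := fun i => if Odd (v i) then 1 else 0), Finset.sum_boole] at h1
  · exact_mod_cast h1
  · intro i hi
    have h4 := h3 i hi
    have h5 : -1 ≤ v i := by nlinarith
    have h6 : v i ≤ 1 := by nlinarith
    generalize v i = x at h5 h6
    interval_cases x <;> decide

/-- **four characters of odd degree** -/
theorem four [Finite G] {Z : Subgroup G} (hZ : Z ≤ center G) (h3 : ∀ z ∈ Z, z ^ 3 = 1) (m : Z →* ℂˣ) {u k : G}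
    (h4 : u ^ 4 = 1) (h1 : u ≠ 1) (hk : k * u * k⁻¹ = u⁻¹)
    (hC : Nat.card (centralizer ({u} : Set G)) = 4 * Nat.card Z) :
    Nat.card {χ : G → ℂ // OI G χ ∧ ∀ z : Z, χ z = m z * χ 1} = 4 := by
  classical
  have := finite_irr (G := G)
  have := Fintype.ofFinite (IrrCharacter G)
  have := Fintype.ofFinite Z
  have hv : ∀ χ : IrrCharacter G, ∃ v : ℤ, (χ : G → ℂ) u = v := fun χ =>
    int_of_conj (isIrr_isCharacter χ.2) u fun n hn => by
      have h2 : n % 2 = 1 := by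
        obtain ⟨j, -, hj⟩ := (Nat.dvd_prime_pow Nat.prime_two (m := 2)).1 (orderOf_dvd_of_pow_eq_one h4)
        rcases j with _ | j
        · exact absurd (orderOf_eq_one_iff.1 hj) h1
        · rw [hj] at hn
          exact Nat.odd_iff.1 (Nat.coprime_two_right.1 (hn.coprime_dvd_right (dvd_pow_self 2 j.succ_ne_zero)))
      rw [pow_eq_pow_mod n h4]
      rcases (by omega : n % 4 = 1 ∨ n % 4 = 3) with h | h <;> rw [h]
      · rw [pow_one]
      · exact isConj_iff.2 ⟨k, by rw [hk, inv_eq_iff_mul_eq_one, ← pow_succ', h4]⟩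
  choose v hv using hv
  have key : ∀ (z : Z) (b : G), b ^ 4 = 1 → IsConj (z * u) b → z = 1 := fun z b hb h => by
    obtain ⟨c, rfl⟩ := isConj_iff.1 h
    rw [conj_pow, mul_inv_eq_one, mul_eq_left, Commute.mul_pow (mem_center_iff.1 (hZ z.2) u).symm, h4, mul_one, pow_succ,
      h3 z z.2, one_mul] at hb
    exact Subtype.ext hb
  have hc : (Nat.card Z : ℂ) ≠ 0 := Nat.cast_ne_zero.2 Nat.card_pos.ne'
  have k1 := rel_orth hZ m u u
  rw [Finset.sum_eq_single (1 : Z) (fun z _ hz => by rw [if_neg fun h => hz (key z u h4 h), mul_zero])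
    (fun h => absurd (mem_univ _) h), Subgroup.coe_one, one_mul, if_pos (IsConj.refl u), map_one, inv_one, Units.val_one, one_mul,
    hC, Nat.cast_mul, mul_comm _ (Nat.card Z : ℂ), ← Finset.sum_filter] at k1
  have k2 := rel_orth hZ m u 1
  rw [Finset.sum_eq_zero (s := (univ : Finset Z)) (fun z _ => by
    rw [if_neg fun h => h1 (by
      have h5 := key z 1 (one_pow 4) h
      rwa [h5, Subgroup.coe_one, one_mul, isConj_one_left] at h), mul_zero]), ← Finset.sum_filter] at k2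
  have k3 := four_aux (univ.filter fun χ : IrrCharacter G => ∀ z : Z, (χ : G → ℂ) z = m z * (χ : G → ℂ) 1) v
    (fun χ => conj ((χ : G → ℂ) 1)) (fun χ => (map_ne_zero _).2 (isIrr_apply_one_ne_zero χ.2)) (by
      have h5 := mul_left_cancel₀ hc k1
      rw [Finset.sum_congr rfl fun χ _ => by rw [hv χ, map_intCast]] at h5
      exact_mod_cast h5) (by
      have h5 := (mul_eq_zero.1 k2).resolve_left hc
      rwa [Finset.sum_congr rfl fun χ _ => by rw [hv χ]] at h5)
  rw [Finset.filter_filter, ← Fintype.card_subtype, ← Nat.card_eq_fintype_card] at k3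
  rw [← k3]
  exact Nat.card_congr ⟨fun χ => ⟨⟨χ.1, χ.2.1.1⟩, χ.2.2,
      (par (isIrr_isCharacter χ.2.1.1) (j := 2) h4 (hv ⟨χ.1, χ.2.1.1⟩)).1 χ.2.1.2⟩,
    fun χ => ⟨χ.1.1, ⟨χ.1.2, (par (isIrr_isCharacter χ.1.2) (j := 2) h4 (hv χ.1)).2 χ.2.2⟩, χ.2.1⟩,
    fun _ => rfl, fun _ => rfl⟩

theorem card_two_res [Finite G] {L : Subgroup G} [L.Normal] (hL : L.index = 2) {g : G} (hg : g ∉ L)
    {p : (G → ℂ) → Prop} {q : (L → ℂ) → Prop} (h : ∀ χ θ, (∀ n : L, χ n = θ n) → (p χ ↔ q θ)) :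
    Nat.card {χ // OI G χ ∧ p χ} = 2 * Nat.card {θ // OI L θ ∧ q θ ∧ ∀ x, θ (MulAut.conjNormal g x) = θ x} := by
  have := Fintype.ofFinite G
  have := Fintype.ofFinite L
  have h1 := dc (L := L) (c := 1) (A' := fun χ => Odd (charDegree χ) ∧ p χ)
    (A := fun θ => Odd (charDegree θ) ∧ q θ ∧ ∀ x, θ (MulAut.conjNormal g x) = θ x) fun χ θ hχ hθ hc => by
      rcases H614.restrict_two L hL hχ hθ hc with h2 | h2
      · have h3 : charDegree χ = charDegree θ := Blocks.Basic.charDegree_of_eq ((h2 1).trans (deg_eq hθ))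
        refine ⟨?_, fun _ => by rw [Nat.cast_one, one_mul]; exact h2 1⟩
        rw [h3, h χ θ h2, and_iff_left fun x => by rw [← h2, ← h2]; exact isIrr_isClassFunction hχ x g]
      · have h4 : ¬ ∀ x, θ (MulAut.conjNormal g x) = θ x := fun h5 =>
          (con_cases Nat.prime_two hL hg hχ hθ hc).elim (fun h6 => isIrr_apply_one_ne_zero hθ (by
            linear_combination h6.2 - h2.1)) fun h6 => h6.1 h5
        exact ⟨iff_of_false (fun h5 => not_van hL ⟨hχ, h5.1⟩ h2.2) fun h5 => h4 h5.2.2, fun h5 => absurd h5.2.2 h4⟩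
  rw [one_pow, one_mul, hL] at h1
  simpa only [oi_def, and_assoc] using h1

/-- **the extension of degree two** -/
theorem exists_two [Finite G] {β : MulAut G} {t : G} (h1 : ∀ x, β (β x) = t * x * t⁻¹) (h2 : β t = t) :
    ∃ (W : Type) (_ : Group W) (_ : Finite W) (j : G →* W) (a : W), Function.Injective j ∧ j.range.index = 2 ∧
      a ∉ j.range ∧ (∀ x, j (β x) = a * j x * a⁻¹) ∧ a * a = j t := by
  let f : G →* Equiv.Perm (G ⊕ G) := (Equiv.Perm.sumCongrHom G G).comp ((MulAction.toPermHom G G).prod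
    ((MulAction.toPermHom G G).comp β.symm.toMonoidHom))
  let s : Equiv.Perm (G ⊕ G) := (Equiv.sumComm G G).trans (Equiv.sumCongr (Equiv.mulLeft t) (Equiv.refl G))
  have hf : Function.Injective f := fun x y h => by
    have h3 : (Sum.inl (x * 1) : G ⊕ G) = Sum.inl (y * 1) := Equiv.congr_fun h (Sum.inl 1)
    exact mul_right_cancel (Sum.inl_injective h3)
  have hs : s ∉ f.range := fun ⟨x, h⟩ => Sum.inl_ne_inr (Equiv.congr_fun h (Sum.inl 1))
  have hα : ∀ x, f (β x) = s * f x * s⁻¹ := fun x => by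
    rw [eq_mul_inv_iff_mul_eq]
    ext y
    rcases y with y | y
    · show Sum.inr (β.symm (β x) * y) = Sum.inr (x * y)
      rw [β.symm_apply_apply]
    · show Sum.inl (β x * (t * y)) = Sum.inl (t * (β.symm x * y))
      obtain ⟨x, rfl⟩ := β.surjective x
      rw [h1, β.symm_apply_apply]
      congr 1
      group
  have h3 : s * s = f t := by
    ext y
    rcases y with y | y
    · rfl
    · show Sum.inr (t * y) = Sum.inr (β.symm t * y)
      rw [β.symm_apply_eq.2 h2.symm]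
  have h4 : s * s ∈ f.range := ⟨t, h3.symm⟩
  have k1 : ∀ g ∈ f.range, s * g * s⁻¹ ∈ f.range := by
    rintro _ ⟨x, rfl⟩
    exact ⟨_, hα x⟩
  have k2 : ∀ g ∈ f.range, s⁻¹ * g * s ∈ f.range := by
    rintro _ ⟨x, rfl⟩
    obtain ⟨y, rfl⟩ := β.surjective x
    exact ⟨y, by rw [hα]; group⟩
  clear_value f s
  let W : Subgroup (Equiv.Perm (G ⊕ G)) :=
    { carrier := {g | g ∈ f.range ∨ g * s ∈ f.range}
      one_mem' := Or.inl (one_mem _)
      mul_mem' := by
        rintro a b (ha | ha) (hb | hb)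
        · exact Or.inl (mul_mem ha hb)
        · exact Or.inr (by rw [mul_assoc]; exact mul_mem ha hb)
        · exact Or.inr (by convert mul_mem ha (k2 _ hb) using 1; group)
        · exact Or.inl (by convert mul_mem (mul_mem ha (k2 _ hb)) (inv_mem h4) using 1; group)
      inv_mem' := by
        rintro a (ha | ha)
        · exact Or.inl (inv_mem ha)
        · exact Or.inr (by convert mul_mem (k1 _ (inv_mem ha)) h4 using 1; group) }
  let j : G →* W := f.codRestrict W fun x => Or.inl ⟨x, rfl⟩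
  have hr : ∀ w : W, w ∈ j.range ↔ (w : Equiv.Perm (G ⊕ G)) ∈ f.range := fun w =>
    ⟨fun ⟨x, e⟩ => ⟨x, congrArg Subtype.val e⟩, fun ⟨x, e⟩ => ⟨x, Subtype.ext e⟩⟩
  refine ⟨W, inferInstance, inferInstance, j, ⟨s, Or.inr h4⟩, fun _ _ e => hf (congrArg Subtype.val e), ?_,
    fun h => hs ((hr _).1 h), fun x => Subtype.ext (hα x), Subtype.ext h3⟩
  refine index_eq_two_iff.2 ⟨⟨s, Or.inr h4⟩, fun b => ?_⟩
  rw [hr, hr]
  have h5 : ¬ ((b : Equiv.Perm (G ⊕ G)) * s ∈ f.range ∧ (b : Equiv.Perm (G ⊕ G)) ∈ f.range) := fun h =>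
    hs ((mul_mem_cancel_left h.2).1 h.1)
  have h6 : (b : Equiv.Perm (G ⊕ G)) ∈ f.range ∨ (b : Equiv.Perm (G ⊕ G)) * s ∈ f.range := b.2
  show Xor ((b : Equiv.Perm (G ⊕ G)) * s ∈ f.range) _
  unfold Xor
  tauto

/-- **two fixed characters** -/
theorem fix_two [Finite G] {Z : Subgroup G} (hZ : Z ≤ center G) (h3 : ∀ z ∈ Z, z ^ 3 = 1) (m : Z →* ℂˣ)
    {β : MulAut G} {t k : G} (h1 : ∀ x, β (β x) = t * x * t⁻¹) (ht : t * t = 1) (ht1 : t ≠ 1)
    (hC : ∀ x, β x = x ↔ x ∈ Z ∨ x * t ∈ Z) (hk : t * k * (β k)⁻¹ ∈ Z) :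
    Nat.card {θ : G → ℂ // OI G θ ∧ (∀ z : Z, θ z = m z * θ 1) ∧ ∀ x, θ (β x) = θ x} = 2 := by
  obtain ⟨W, _, _, j, a, hj, hi, ha, hα, h2⟩ := exists_two h1 ((hC t).2 (Or.inr (ht ▸ one_mem Z)))
  have := normal_of_index_eq_two hi
  have htZ : t ∉ Z := fun h => ht1 (by
    have h4 := h3 t h
    rwa [pow_succ, pow_two, ht, one_mul] at h4)
  have hw : ∀ w : W, ∃ x, w = j x ∨ w = j x * a := fun w => by
    by_cases h : w ∈ j.range
    · exact h.imp fun _ e => Or.inl e.symm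
    · obtain ⟨x, e⟩ := (mul_mem_iff_of_index_two hi).2 (iff_of_false h fun h4 => ha (inv_mem_iff.1 h4))
      exact ⟨x, Or.inr (by rw [e, inv_mul_cancel_right])⟩
  have hca : ∀ x, j x * a = a * j x ↔ β x = x := fun x => by
    rw [← hj.eq_iff, hα, mul_inv_eq_iff_eq_mul, eq_comm]
  have hZ' : Z.map j ≤ center W := by
    rintro _ ⟨z, hz, rfl⟩
    refine mem_center_iff.2 fun w => ?_
    obtain ⟨x, rfl | rfl⟩ := hw w
    · rw [← map_mul, ← map_mul, mem_center_iff.1 (hZ hz)]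
    · rw [mul_assoc, ← (hca z).2 ((hC z).2 (Or.inl hz)), ← mul_assoc, ← mul_assoc, ← map_mul, ← map_mul,
        mem_center_iff.1 (hZ hz)]
  have h3' : ∀ z ∈ Z.map j, z ^ 3 = 1 := by
    rintro _ ⟨z, hz, rfl⟩
    rw [← map_pow, h3 z hz, map_one]
  have h4 : a ^ 4 = 1 := by rw [show 4 = 2 + 2 from rfl, pow_add, pow_two, h2, ← map_mul, ht, map_one]
  have h5 : j k * a * (j k)⁻¹ = a⁻¹ := by
    have k1 : j k * a * (j k)⁻¹ = j (t * k * (β k)⁻¹) * a⁻¹ := by
      have k0 := mem_center_iff.1 (hZ hk) t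
      rw [show t * k * (β k)⁻¹ = k * (β k)⁻¹ * t from mul_left_cancel (k0.trans (by group)), map_mul, map_mul, map_inv,
        hα, ← h2]
      group
    have k2 := congrArg (· ^ 4) k1
    simp only [conj_pow, h4, mul_one, mul_inv_cancel] at k2
    rw [Commute.mul_pow (mem_center_iff.1 (hZ' (mem_map_of_mem j hk)) a⁻¹).symm, inv_pow, h4, inv_one, mul_one, pow_succ,
      h3' _ (mem_map_of_mem j hk), one_mul] at k2
    rw [k1, ← k2, one_mul]
  let e := equivMapOfInjective Z j hj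
  have h6 : Nat.card (centralizer ({a} : Set W)) = 4 * Nat.card (Z.map j) := by
    rw [← Nat.card_congr e.toEquiv, show 4 = Nat.card (Bool × Bool) by simp, ← Nat.card_prod]
    have k0 : ∀ p : (Bool × Bool) × Z,
        j (p.2 * if p.1.1 then t else 1) * (if p.1.2 then a else 1) ∈ centralizer ({a} : Set W) := fun p => by
      refine mul_mem (mem_centralizer_singleton_iff.2 ((hca _).2 ((hC _).2 ?_))) ?_
      · split_ifs
        · exact Or.inr (by rw [mul_assoc, ht, mul_one]; exact p.2.2)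
        · exact Or.inl (by rw [mul_one]; exact p.2.2)
      · split_ifs
        · exact mem_centralizer_singleton_iff.2 rfl
        · exact one_mem _
    refine (Nat.card_eq_of_bijective (fun p => ⟨_, k0 p⟩) ⟨?_, ?_⟩).symm
    · rintro ⟨⟨b, c⟩, z⟩ ⟨⟨b', c'⟩, z'⟩ h
      have k1 : j (z * if b then t else 1) * (if c then a else 1) = j (z' * if b' then t else 1) * if c' then a else 1 :=
        congrArg Subtype.val h
      have k2 : ∀ x y, j x * a ≠ j y * 1 := fun x y h => ha ⟨x⁻¹ * y, by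
        rw [map_mul, map_inv, ← mul_one (j y), ← h, inv_mul_cancel_left]⟩
      have k3 : ∀ x y : Z, (x : G) * t ≠ y * 1 := fun x y h => htZ (by
        rw [← eq_inv_mul_iff_mul_eq] at h
        rw [h]
        exact mul_mem (inv_mem x.2) (mul_mem y.2 (one_mem Z)))
      obtain rfl : c = c' := by
        cases c <;> cases c'
        · rfl
        · exact absurd k1.symm (k2 _ _)
        · exact absurd k1 (k2 _ _)
        · rfl
      have k4 := hj (mul_right_cancel k1)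
      obtain rfl : b = b' := by
        cases b <;> cases b'
        · rfl
        · exact absurd k4.symm (k3 _ _)
        · exact absurd k4 (k3 _ _)
        · rfl
      rw [Subtype.ext (mul_right_cancel k4)]
    · rintro ⟨w, h⟩
      have k1 : ∀ x, j x * a = a * j x → ∃ (b : Bool) (z : Z), x = z * if b then t else 1 := fun x hx => by
        rcases (hC x).1 ((hca x).1 hx) with k2 | k2
        · exact ⟨false, ⟨x, k2⟩, (mul_one x).symm⟩
        · exact ⟨true, ⟨_, k2⟩, by rw [if_pos rfl, mul_assoc, ht, mul_one]⟩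
      have k2 := mem_centralizer_singleton_iff.1 h
      obtain ⟨x, rfl | rfl⟩ := hw w
      · obtain ⟨b, z, rfl⟩ := k1 x k2
        exact ⟨((b, false), z), Subtype.ext (mul_one _)⟩
      · obtain ⟨b, z, rfl⟩ := k1 x (mul_right_cancel (k2.trans (mul_assoc _ _ _).symm))
        exact ⟨((b, true), z), rfl⟩
  have h7 := four hZ' h3' (m.comp e.symm.toMonoidHom) h4 (fun h => ha (h ▸ one_mem _)) h5 h6
  have hp : ∀ χ : W → ℂ, (∀ z : Z.map j, χ z = (m.comp e.symm.toMonoidHom) z * χ 1) ↔ ∀ z : Z, χ (j z) = m z * χ 1 :=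
    fun χ => ⟨fun h z => (h (e z)).trans (congrArg (fun y => ((m y : ℂˣ) : ℂ) * χ 1) (e.symm_apply_apply z)), fun h z => by
      obtain ⟨z, rfl⟩ := e.surjective z
      exact (h z).trans (congrArg (fun y => ((m y : ℂˣ) : ℂ) * χ 1) (e.symm_apply_apply z)).symm⟩
  rw [card_two_res hi ha (q := fun θ => ∀ z : Z, θ ⟨j z, z, rfl⟩ = m z * θ 1) fun χ θ h => by
    rw [hp, ← h 1]
    exact forall_congr' fun z => by rw [← h]; rfl] at h7
  refine Nat.eq_of_mul_eq_mul_left two_pos (Eq.trans ?_ h7)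
  congr 1
  refine card_congr (MonoidHom.ofInjective hj) fun θ _ => and_congr (forall_congr' fun z => ?_)
    ⟨fun h y => ?_, fun h x => ?_⟩
  · show θ (MonoidHom.ofInjective hj z) = m z * θ (MonoidHom.ofInjective hj 1) ↔ _
    rw [map_one]
    rfl
  · obtain ⟨x, rfl⟩ := (MonoidHom.ofInjective hj).surjective y
    exact (congrArg θ (Subtype.ext (hα x).symm)).trans (h x)
  · exact (congrArg θ (Subtype.ext (hα x))).trans (h _)

end Cfsg.Agent.MK.A
end

-- part: MK/A/Cov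
section
set_option linter.all false
open scoped Cfsg.Agent.FastGrp

/-!
# MK, alternating groups: triple covers with dihedral Sylow subgroups of order eight (helper42)

* `kk_four`, `fB_two` : the counts for all subgroups which contain the element of order four;
* `exists_comm`, `det_eq` : the action on the centre is the determinant of the action on a Sylow `3`-subgroup;
* `sm_four`, `sm_four_out` : the small rows.
-/

set_option autoImplicit false
set_option maxHeartbeats 400000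

namespace Cfsg.Agent.MK.A

open Cfsg Subgroup Cfsg.Agent.MK.T

variable {X S : Type} [Group X] [Group S] [Finite X]

theorem four_of (ψ : X →* S) {Z : Subgroup X} (hψ : ψ.ker = Z) (hZ : Z ≤ center X) (h3 : ∀ z ∈ Z, z ^ 3 = 1)
    (m : Z →* ℂˣ) {u k : X} (h4 : u ^ 4 = 1) (h2 : ψ u ^ 2 ≠ 1) (hk : k * u * k⁻¹ = u⁻¹)
    (hC : ∀ s, s * ψ u = ψ u * s → s ∈ zpowers (ψ u)) :
    Nat.card {χ : X → ℂ // OI X χ ∧ ∀ z : Z, χ z = m z * χ 1} = 4 := by
  subst hψ
  have := two_prime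
  refine four hZ h3 m h4 (fun h => h2 (by rw [h, map_one, one_pow])) hk ?_
  let ρ := ψ.comp (centralizer ({u} : Set X)).subtype
  have h5 : ρ.range = zpowers (ψ u) := le_antisymm (by
    rintro _ ⟨x, rfl⟩
    exact hC _ (by
      show ψ x * ψ u = ψ u * ψ x
      rw [← map_mul, ← map_mul, mem_centralizer_singleton_iff.1 x.2]))
    (zpowers_le.2 ⟨⟨u, mem_centralizer_singleton_iff.2 rfl⟩, rfl⟩)
  have h6 : orderOf (ψ u) = 2 ^ (1 + 1) := orderOf_eq_prime_pow h2 (by rw [← map_pow]; exact h4 ▸ map_one ψ)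
  rw [← ρ.ker.index_mul_card, index_ker, h5, Nat.card_zpowers, h6]
  exact congrArg (4 * ·) (Nat.card_congr (subgroupOfEquivOfLe (H := ψ.ker) fun z hz =>
    mem_centralizer_singleton_iff.2 (mem_center_iff.1 (hZ hz) u).symm).toEquiv)

omit [Finite X] in
theorem fB_def (K : Subgroup X) (l : X → ℂ) (α : MulAut X) : fB K l α =
    Nat.card {ψ : K → ℂ // OI K ψ ∧ Ov K (center X) l ψ ∧ ∀ y y' : K, (y' : X) = α y → ψ y' = ψ y} := rfl

omit [Finite X] in
theorem fA_top (l : X → ℂ) (α : MulAut X) : fA l α = fB ⊤ l α :=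
  (card_congr (topEquiv (G := X)) fun χ _ => and_congr
    ⟨fun h z hz => h ⟨z, trivial⟩ hz, fun h (z : (⊤ : Subgroup X)) hz => h (z : X) hz⟩
    ⟨fun h x => h ⟨x, trivial⟩ ⟨_, trivial⟩ rfl, fun h (y y' : (⊤ : Subgroup X)) e => (congrArg χ e).trans (h (y : X))⟩).symm

theorem fB_eq_of_hom {K K' : Subgroup X} (hK : center X ≤ K) (hK' : center X ≤ K') {l : X → ℂ} {α : MulAut X}
    (h : ∀ m : center X →* ℂˣ, (∀ z : center X, l z = m z) → fB K l α = fB K' l α) : fB K l α = fB K' l α := by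
  by_cases hm : ∃ m : center X →* ℂˣ, ∀ z : center X, l z = m z
  · obtain ⟨m, hm⟩ := hm
    exact h m hm
  · have k : ∀ K : Subgroup X, center X ≤ K → fB K l α = 0 := fun K hK => by
      rw [fB_def]
      exact (Nat.card_eq_zero.2 (Or.inl ⟨fun ψ =>
        hm (exists_hom hK (fun z hz x _ => mem_center_iff.1 hz x) ψ.2.1.1 ψ.2.2.1)⟩))
    rw [k K hK, k K' hK']

omit [Finite X] in
theorem ov_iff {K : Subgroup X} {l : X → ℂ} {m : center X →* ℂˣ} (hm : ∀ z : center X, l z = m z) (ψ : K → ℂ) :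
    Ov K (center X) l ψ ↔ ∀ z : (center X).subgroupOf K, ψ z = m.comp (K.subtype.subgroupComap _) z * ψ 1 :=
  ⟨fun h z => (h z z.2).trans (congrArg (· * ψ 1) (hm ⟨z, z.2⟩)),
    fun h z hz => (h ⟨z, hz⟩).trans (congrArg (· * ψ 1) (hm ⟨z, hz⟩).symm)⟩

omit [Finite X] in
theorem sub_cen (K : Subgroup X) : (center X).subgroupOf K ≤ center K := fun _ hz =>
  mem_center_iff.2 fun g => Subtype.ext (mem_center_iff.1 hz g)

variable (φ : X →* S) (hφ : Function.Surjective φ) (hk : φ.ker = center X) (h3 : Nat.card (center X) = 3)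

omit [Finite X] in
include h3 in
theorem cen_cube {z : X} (hz : z ∈ center X) : z ^ 3 = 1 :=
  congrArg Subtype.val (h3 ▸ pow_card_eq_one' : (⟨z, hz⟩ : center X) ^ 3 = 1)

include hk h3

omit [Finite X] in
theorem eq_of_four {a b : X} (ha : a ^ 4 = 1) (hb : b ^ 4 = 1) (h : φ a = φ b) : a = b := by
  have h1 : a * b⁻¹ ∈ center X := by rw [← hk, MonoidHom.mem_ker, map_mul, map_inv, h, mul_inv_cancel]
  rw [← inv_mul_cancel_right a b, Commute.mul_pow (mem_center_iff.1 h1 b).symm, hb, mul_one, pow_succ, cen_cube h3 h1,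
    one_mul] at ha
  exact mul_inv_eq_one.1 ha

omit [Finite X] in
include hφ in
theorem lift_four {s : S} (hs : s ^ 4 = 1) : ∃ x : X, x ^ 4 = 1 ∧ φ x = s := by
  obtain ⟨x, rfl⟩ := hφ s
  have h1 : x ^ 4 ∈ center X := by rw [← hk, MonoidHom.mem_ker, map_pow, hs]
  refine ⟨x ^ 9, ?_, ?_⟩
  · rw [← pow_mul, show 9 * 4 = 4 * 3 * 3 from rfl, pow_mul, pow_mul, cen_cube h3 h1, one_pow]
  · rw [map_pow, show 9 = 4 * 2 + 1 from rfl, pow_succ, pow_mul, hs, one_pow, one_mul]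

theorem kk_four {K : Subgroup X} {u k : X} (hu : u ∈ K) (hkK : k ∈ K) (h4 : u ^ 4 = 1) (h2 : φ u ^ 2 ≠ 1)
    (hi : φ k * φ u * (φ k)⁻¹ = (φ u)⁻¹) (hC : ∀ s, s * φ u = φ u * s → s ∈ zpowers (φ u)) {l : X → ℂ}
    {m : center X →* ℂˣ} (hm : ∀ z : center X, l z = m z) : kk K (center X) l = 4 := by
  refine Eq.trans (Nat.card_congr (Equiv.subtypeEquivRight fun ψ => and_congr_right fun _ => ov_iff hm ψ))
    (four_of (φ.comp K.subtype) (by rw [← MonoidHom.comap_ker, hk]; rfl) (sub_cen K)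
      (fun z hz => Subtype.ext (cen_cube h3 hz)) _ (u := ⟨u, hu⟩) (k := ⟨k, hkK⟩) (Subtype.ext h4) h2
      (Subtype.ext (eq_of_four φ hk h3 ?_ ?_ ?_)) hC)
  · show (k * u * k⁻¹) ^ 4 = 1
    rw [conj_pow, h4, mul_one, mul_inv_cancel]
  · show u⁻¹ ^ 4 = 1
    rw [inv_pow, h4, inv_one]
  · show φ (k * u * k⁻¹) = φ u⁻¹
    rw [map_mul, map_mul, map_inv, map_inv, hi]

theorem fB_two (hp : _root_.commutator X = ⊤) {K : Subgroup X} {γ : MulAut X} {μ : MulAut S}
    (hγ : ∀ x, φ (γ x) = μ (φ x)) (hz : ∀ z ∈ center X, γ z = z) (hK : ∀ x, γ x ∈ K ↔ x ∈ K) {u : X} (hu : u ∈ K)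
    (h4 : u ^ 4 = 1) (h2 : φ u ^ 2 ≠ 1) (h5 : μ (φ u) = (φ u)⁻¹) (h6 : ∀ s, μ (μ s) = φ u ^ 2 * s * (φ u ^ 2)⁻¹)
    (h7 : ∀ s, μ s = s → s = 1 ∨ s = φ u ^ 2) {l : X → ℂ} {m : center X →* ℂˣ} (hm : ∀ z : center X, l z = m z) :
    fB K l γ = 2 := by
  have k1 : γ u = u⁻¹ := eq_of_four φ hk h3 (by rw [← map_pow, h4, map_one]) (by rw [inv_pow, h4, inv_one])
    (by rw [hγ, h5, map_inv])
  have k2 : u ^ 2 * u ^ 2 = 1 := by rw [← pow_add, h4]
  have k3 : γ (u ^ 2) = u ^ 2 := by rw [map_pow, k1, inv_pow, inv_eq_of_mul_eq_one_right k2]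
  have k4 := eq_one_of_ind φ hk hp (α := (MulAut.conj (u ^ 2))⁻¹ * (γ * γ)) fun x => by
    rw [MulAut.mul_apply, MulAut.conj_inv_apply, map_mul, map_mul, MulAut.mul_apply, hγ, hγ, h6, map_inv, map_pow]
    group
  refine Eq.trans (Nat.card_congr (Equiv.subtypeEquivRight fun ψ => and_congr_right fun _ =>
    and_congr (ov_iff hm ψ) (fix_iff (β := res K γ hK) (fun _ => rfl) ψ)))
    (fix_two (sub_cen K) (fun z hz => Subtype.ext (cen_cube h3 hz)) _ (t := ⟨u ^ 2, pow_mem hu 2⟩) (k := ⟨u, hu⟩)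
      (fun x => Subtype.ext ?_) (Subtype.ext k2) (fun h => h2 ?_) (fun x => ?_) ?_)
  · exact MulEquiv.congr_fun (inv_mul_eq_one.1 k4).symm (x : X)
  · rw [← map_pow, show u ^ 2 = 1 from congrArg Subtype.val h, map_one]
  · show _ ↔ (x : X) ∈ center X ∨ (x : X) * u ^ 2 ∈ center X
    rw [Subtype.ext_iff, res_coe]
    refine ⟨fun h => ?_, fun h => h.elim (hz _) fun h => ?_⟩
    · rw [← hk, MonoidHom.mem_ker, MonoidHom.mem_ker]
      refine (h7 (φ x) (by rw [← hγ, h])).imp id fun e => ?_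
      rw [map_mul, e, ← map_pow, ← map_mul, k2, map_one]
    · have k5 := hz _ h
      rw [map_mul, k3] at k5
      exact mul_right_cancel k5
  · show u ^ 2 * u * (γ u)⁻¹ ∈ center X
    rw [k1, inv_inv, ← pow_succ, ← pow_succ, h4]
    exact one_mem _

include hφ

/-- the lifts of the generators of a Sylow `3`-subgroup do not commute -/
theorem exists_comm (hp : _root_.commutator X = ⊤) {a b : S} (ha : a ^ 3 = 1) (hb : b ^ 3 = 1) (hab : a * b = b * a)
    (h1 : a ≠ 1) (h2 : b ∉ zpowers a) (h27 : ¬ 27 ∣ Nat.card S) :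
    ∃ x y c : X, φ x = a ∧ φ y = b ∧ c ∈ center X ∧ c ≠ 1 ∧ x * y = c * (y * x) := by
  have : Fact (Nat.Prime 3) := ⟨Nat.prime_three⟩
  have : Finite S := Finite.of_surjective φ hφ
  obtain ⟨x, rfl⟩ := hφ a
  obtain ⟨y, rfl⟩ := hφ b
  refine ⟨x, y, x * y * (y * x)⁻¹, rfl, rfl, by
    rw [← hk, MonoidHom.mem_ker, map_mul, map_inv, map_mul, map_mul, hab, mul_inv_cancel], fun h => ?_,
    (inv_mul_cancel_right _ _).symm⟩
  have hxy : Commute x y := mul_inv_eq_one.1 h
  have hc : Commute (φ x) (φ y) := hab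
  let E : Subgroup S :=
    { carrier := {s | ∃ i j : ℕ, s = φ x ^ i * φ y ^ j}
      one_mem' := ⟨0, 0, by simp⟩
      mul_mem' := by
        rintro _ _ ⟨i, j, rfl⟩ ⟨k, l, rfl⟩
        exact ⟨i + k, j + l, by rw [pow_add, pow_add, (hc.pow_pow k j).symm.mul_mul_mul_comm]⟩
      inv_mem' := by
        rintro _ ⟨i, j, rfl⟩
        refine ⟨2 * i, 2 * j, inv_eq_of_mul_eq_one_right ?_⟩
        rw [(hc.pow_pow (2 * i) j).symm.mul_mul_mul_comm, ← pow_add, ← pow_add, show i + 2 * i = 3 * i by ring,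
          show j + 2 * j = 3 * j by ring, pow_mul, pow_mul, ha, hb, one_pow, one_pow, one_mul] }
  have k1 : IsPGroup 3 E := by
    rintro ⟨_, i, j, rfl⟩
    refine ⟨1, Subtype.ext ?_⟩
    show (φ x ^ i * φ y ^ j) ^ 3 ^ 1 = 1
    rw [pow_one, (hc.pow_pow i j).mul_pow, ← pow_mul, ← pow_mul, mul_comm i, mul_comm j, pow_mul, pow_mul, ha, hb,
      one_pow, one_pow, one_mul]
  have k2 : ¬ 3 ∣ E.index := fun h4 => by
    obtain ⟨n, hn⟩ := k1.exists_card_eq
    have h5 : zpowers (φ x) < E := lt_of_le_of_ne (zpowers_le.2 ⟨1, 0, by simp⟩) fun e => h2 (e ▸ ⟨0, 1, by simp⟩)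
    have h6 : Nat.card (zpowers (φ x)) < Nat.card E :=
      lt_of_le_of_ne (card_le_of_le h5.le) fun e => h5.ne (eq_of_le_of_card_ge h5.le e.ge)
    rw [Nat.card_zpowers, orderOf_eq_prime ha h1, hn] at h6
    have h7 : 3 ^ 1 < 3 ^ n := h6
    refine h27 ?_
    rw [← E.index_mul_card, hn]
    exact mul_dvd_mul h4 (pow_dvd_pow 3 ((Nat.pow_lt_pow_iff_right (by norm_num)).1 h7) : 3 ^ 2 ∣ 3 ^ n)
  have k3 : IsPGroup 3 (E.comap φ) := k1.comap_of_ker_isPGroup φ (hk ▸ IsPGroup.of_card (n := 1) h3)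
  have k4 : ∀ g : E.comap φ, ∃ z ∈ center X, ∃ i j : ℕ, (g : X) = z * (x ^ i * y ^ j) := fun ⟨g, i, j, e⟩ =>
    ⟨g * (x ^ i * y ^ j)⁻¹, by rw [← hk, MonoidHom.mem_ker, map_mul, map_inv, map_mul, map_pow, map_pow, e, mul_inv_cancel],
      i, j, (inv_mul_cancel_right _ _).symm⟩
  have k5 : _root_.commutator (E.comap φ) = ⊥ := by
    rw [commutator_def, commutator_eq_bot_iff_le_centralizer]
    intro g _ g' _
    obtain ⟨z, hz, i, j, e⟩ := k4 g
    obtain ⟨z', hz', i', j', e'⟩ := k4 g'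
    refine Subtype.ext ?_
    show (g' : X) * g = g * g'
    rw [e, e']
    refine Commute.mul_left (mem_center_iff.1 hz' _).symm (Commute.mul_right (mem_center_iff.1 hz _) ?_)
    exact ((Commute.pow_pow_self x _ _).mul_right (hxy.pow_pow _ _)).mul_left
      ((hxy.symm.pow_pow _ _).mul_right (Commute.pow_pow_self y _ _))
  obtain ⟨z, hz⟩ : ∃ z : center X, z ≠ 1 :=
    have := Finite.one_lt_card_iff_nontrivial.1 (h3 ▸ (by norm_num : 1 < 3))
    exists_ne 1
  have k6 := OddHalf.LongSL.mem_commutator_of_center (E.comap φ) k3 (by rwa [index_comap_of_surjective _ hφ])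
    (z := z) (show φ z ∈ E by rw [show φ z = 1 from hk.ge z.2]; exact one_mem E) z.2
    (hp ▸ mem_top _)
  rw [k5, mem_bot] at k6
  exact hz (Subtype.ext (congrArg (fun g : E.comap φ => (g : X)) k6))

omit [Finite X] hφ h3 in
/-- **the determinant** -/
theorem det_eq {x y c : X} (hc : c ∈ center X) (h : x * y = c * (y * x)) {α : MulAut X} (hα : α c = c) {i j k l : ℕ}
    (h1 : φ (α x) = φ x ^ i * φ y ^ j) (h2 : φ (α y) = φ x ^ k * φ y ^ l) : c ^ (k * j + 1) = c ^ (i * l) := by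
  have k0 : ∀ {a : X} {i j : ℕ}, φ a = φ x ^ i * φ y ^ j → ∃ z ∈ center X, a = z * (x ^ i * y ^ j) := fun {a i j} e =>
    ⟨a * (x ^ i * y ^ j)⁻¹, by rw [← hk, MonoidHom.mem_ker, map_mul, map_inv, map_mul, map_pow, map_pow, e, mul_inv_cancel],
      (inv_mul_cancel_right _ _).symm⟩
  obtain ⟨v, hv, k1⟩ := k0 h1
  obtain ⟨w, hw, k2⟩ := k0 h2
  have k3 := congrArg α h
  rw [map_mul, map_mul, map_mul, hα, k1, k2] at k3
  have k4 : ∀ {a : X}, a ∈ center X → ∀ g g' : X, g * (a * g') = a * (g * g') := fun ha g g' => by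
    rw [← mul_assoc, mem_center_iff.1 ha, mul_assoc]
  have k5 : x ^ i * y ^ j * (x ^ k * y ^ l) = c * (x ^ k * y ^ l * (x ^ i * y ^ j)) := by
    rw [mul_assoc v, k4 hw, mul_assoc w, k4 hv, k4 hw v, ← k4 hc, ← k4 hc] at k3
    exact mul_left_cancel (mul_left_cancel k3)
  have k6 : ∀ i j k l : ℕ, c ^ (k * j) * (x ^ i * y ^ j * (x ^ k * y ^ l)) = x ^ (i + k) * y ^ (j + l) := fun i j k l => by
    rw [pow_add, pow_add, mul_assoc (x ^ i), mul_assoc (x ^ i), ← k4 (pow_mem hc _), ← mul_assoc (y ^ j),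
      ← mul_assoc (c ^ _), ← comm_pow hc h, mul_assoc]
  have k7 := k6 i j k l
  rw [k5, add_comm i, add_comm j, ← k6 k l i j, ← mul_assoc, ← pow_succ] at k7
  exact mul_right_cancel k7

omit h3 in
theorem exists_lift (T : Sylow 2 S) : ∃ Q : Sylow 2 X, (∀ x ∈ (Q : Subgroup X), φ x ∈ (T : Subgroup S)) ∧
    ∀ x, φ x ∈ (T : Subgroup S) → x ∈ normalizer ((Q : Subgroup X) : Set X) := by
  have := two_prime
  obtain ⟨Q, rfl⟩ := Sylow.mapSurjective_surjective hφ 2 T
  refine ⟨Q, fun x hx => mem_map_of_mem φ hx, fun x ⟨y, hy, e⟩ => ?_⟩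
  rw [← inv_mul_cancel_right x y]
  exact mul_mem (center_le_normalizer _ (by rw [← hk, MonoidHom.mem_ker, map_mul, map_inv, e, mul_inv_cancel]))
    (le_normalizer hy)

variable (T : Sylow 2 S) {u k : S} (hu : u ∈ (T : Subgroup S)) (hkT : k ∈ (T : Subgroup S)) (h4 : u ^ 4 = 1)
  (h2 : u ^ 2 ≠ 1) (hi : k * u * k⁻¹ = u⁻¹) (hC : ∀ s, s * u = u * s → s ∈ zpowers u)

include hu hkT h4 h2 hi hC

/-- the automorphisms which fix the centre are inner -/
theorem sm_four (h : ∀ α : MulAut X, (∀ z ∈ center X, α z = z) → ∃ x, α = MulAut.conj x) : Sm X := by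
  obtain ⟨Q, -, hQ⟩ := exists_lift φ hφ hk T
  obtain ⟨u, h5, rfl⟩ := lift_four φ hφ hk h3 h4
  obtain ⟨k, rfl⟩ := hφ k
  exact sm_of_inn h Q fun l _ => kk_eq_of_hom le_rfl le_top (center_le_normalizer _) fun m hm =>
    (kk_four φ hk h3 (mem_top _) (mem_top _) h5 h2 hi hC hm).trans
      (kk_four φ hk h3 (hQ _ hu) (hQ _ hkT) h5 h2 hi hC hm).symm

/-- an outer automorphism of order four -/
theorem sm_four_out (hp : _root_.commutator X = ⊤) {μ : MulAut S}
    (h : ∀ α : MulAut X, (∀ z ∈ center X, α z = z) →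
      ∃ s, (∀ x, φ (α x) = MulAut.conj s (φ x)) ∨ ∀ x, φ (α x) = MulAut.conj s (μ (φ x)))
    (hT : ∀ s ∈ (T : Subgroup S), μ s ∈ (T : Subgroup S)) (h5 : μ u = u⁻¹) (h6 : ∀ s, μ (μ s) = u ^ 2 * s * (u ^ 2)⁻¹)
    (h7 : ∀ s, μ s = s → s = 1 ∨ s = u ^ 2) : Sm X := by
  have := two_prime
  have k1 : ∀ α : MulAut X, (∀ z ∈ center X, α z = z) → ∃ x, α = MulAut.conj x ∨ ∃ γ : MulAut X,
      ((∀ z ∈ center X, γ z = z) ∧ ∀ y, φ (γ y) = μ (φ y)) ∧ α = MulAut.conj x * γ := fun α hα => by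
    obtain ⟨s, hs⟩ := h α hα
    obtain ⟨x, rfl⟩ := hφ s
    have k2 : ∀ y, φ (((MulAut.conj x)⁻¹ * α) y) = (MulAut.conj (φ x))⁻¹ (φ (α y)) := fun y => by
      rw [MulAut.mul_apply, MulAut.conj_inv_apply, MulAut.conj_inv_apply, map_mul, map_mul, map_inv]
    refine ⟨x, hs.imp (fun e => (inv_mul_eq_one.1 (eq_one_of_ind φ hk hp fun y => ?_)).symm) fun e =>
      ⟨(MulAut.conj x)⁻¹ * α, ⟨fun z hz => ?_, fun y => ?_⟩, (mul_inv_cancel_left _ _).symm⟩⟩
    · rw [k2, e, MulAut.inv_apply_self]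
    · rw [MulAut.mul_apply, hα z hz, MulAut.conj_inv_apply, mul_assoc, ← mem_center_iff.1 hz x, inv_mul_cancel_left]
    · rw [k2, e, MulAut.inv_apply_self]
  by_cases hγ : ∃ γ : MulAut X, (∀ z ∈ center X, γ z = z) ∧ ∀ y, φ (γ y) = μ (φ y)
  swap
  · exact sm_four φ hφ hk h3 T hu hkT h4 h2 hi hC fun α hα => (k1 α hα).imp fun x e => e.resolve_right
      fun ⟨γ, e1, _⟩ => hγ ⟨γ, e1⟩
  obtain ⟨γ, hz, hγ⟩ := hγ
  obtain ⟨Q, hQ1, hQ⟩ := exists_lift φ hφ hk T
  obtain ⟨u, h8, rfl⟩ := lift_four φ hφ hk h3 h4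
  obtain ⟨k, rfl⟩ := hφ k
  have k3 : ∀ x, γ x ∈ (Q : Subgroup X) ↔ x ∈ (Q : Subgroup X) := stab_of_le fun x hx =>
    (((Q.isPGroup'.map γ.toMonoidHom).inf_normalizer_sylow Q).le
      ⟨mem_map_of_mem _ hx, hQ _ (hγ x ▸ hT _ (hQ1 x hx))⟩).2
  have k4 : ∀ α : MulAut X, (∀ z ∈ center X, α z = z) → ∃ x, α = MulAut.conj x ∨ α = MulAut.conj x * γ := fun α hα =>
    (k1 α hα).imp fun x e => e.imp id fun ⟨δ, e1, e2⟩ => by
      rw [e2, mul_inv_eq_one.1 (eq_one_of_ind φ hk hp (α := δ * γ⁻¹) fun y => by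
        rw [MulAut.mul_apply, e1.2, ← hγ, MulAut.apply_inv_self])]
  refine sm_of_pair γ k4 Q k3 (fun l _ => kk_eq_of_hom le_rfl le_top (center_le_normalizer _) fun m hm =>
    (kk_four φ hk h3 (mem_top _) (mem_top _) h8 h2 hi hC hm).trans
      (kk_four φ hk h3 (hQ _ hu) (hQ _ hkT) h8 h2 hi hC hm).symm) fun l _ => ?_
  rw [fA_top]
  exact fB_eq_of_hom le_top (center_le_normalizer _) fun m hm =>
    (fB_two φ hk h3 hp hγ hz (fun _ => Iff.rfl) (mem_top _) h8 h2 h5 h6 h7 hm).trans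
      (fB_two φ hk h3 hp hγ hz (stab_norm k3) (hQ _ hu) h8 h2 h5 h6 h7 hm).symm

end Cfsg.Agent.MK.A
end

-- part: MK/A/Six
section
set_option linter.all false
open scoped Cfsg.Agent.FastGrp

/-!
# MK, alternating groups: the triple covers of `A₆` and `A₇` (helper42)

* `smC_seven : SmC A₇`, `smC_six : SmC A₆`.
-/

set_option autoImplicit false
set_option maxHeartbeats 400000
set_option maxRecDepth 100000

namespace Cfsg.Agent.MK.A

open Cfsg Subgroup Equiv Cfsg.Agent.MK.T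

theorem exists_syl {S : Type} [Group S] {u k : S} (h4 : u ^ 4 = 1) (h2 : k ^ 2 = 1) (hi : k * u * k⁻¹ = u⁻¹) :
    ∃ T : Sylow 2 S, u ∈ (T : Subgroup S) ∧ k ∈ (T : Subgroup S) := by
  have := two_prime
  have k1 : ∀ {x : S} {n : ℕ}, x ^ 2 ^ n = 1 → IsPGroup 2 (zpowers x) := fun {x n} h => by
    obtain ⟨j, -, hj⟩ := (Nat.dvd_prime_pow Nat.prime_two).1 (orderOf_dvd_of_pow_eq_one h)
    exact IsPGroup.of_card (by rw [Nat.card_zpowers, hj])
  have : Finite (zpowers u) := (isOfFinOrder_iff_pow_eq_one.2 ⟨4, by norm_num, h4⟩).finite_zpowers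
  obtain ⟨T, hT⟩ := (IsPGroup.to_sup_of_normal_left' (k1 (n := 2) h4) (k1 (n := 1) h2)
    (zpowers_le.2 (mem_normalizer_fintype (by
      rintro _ ⟨n, rfl⟩
      show k * u ^ n * k⁻¹ ∈ zpowers u
      rw [← conj_zpow, hi]
      exact zpow_mem (inv_mem (mem_zpowers u)) n)))).exists_le_sylow
  exact ⟨T, hT (mem_sup_left (mem_zpowers u)), hT (mem_sup_right (mem_zpowers k))⟩

theorem perm_cases {n : ℕ} {τ : Perm (Fin n)} (hτ : Perm.sign τ = -1) (σ : Perm (Fin n)) :
    ∃ s : alternatingGroup (Fin n), (MulAut.conjNormal σ : MulAut (alternatingGroup (Fin n))) = MulAut.conj s ∨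
      (MulAut.conjNormal σ : MulAut (alternatingGroup (Fin n))) = MulAut.conj s * MulAut.conjNormal τ := by
  rcases Int.units_eq_one_or (Perm.sign σ) with h | h
  · exact ⟨⟨σ, h⟩, Or.inl (MulAut.conjNormal_val (h := ⟨σ, h⟩))⟩
  · refine ⟨⟨σ * τ⁻¹, ?_⟩, Or.inr ?_⟩
    · rw [Perm.mem_alternatingGroup, map_mul, map_inv, h, hτ, mul_inv_cancel]
    · rw [← MulAut.conjNormal_val, ← map_mul, inv_mul_cancel_right]

theorem not_mem_zpowers {n : ℕ} {a b : alternatingGroup (Fin n)} {i : Fin n} (ha : (a : Perm (Fin n)) i = i)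
    (hb : (b : Perm (Fin n)) i ≠ i) : b ∉ zpowers a := by
  rintro ⟨k, rfl⟩
  exact hb (Perm.zpow_apply_eq_self_of_apply_eq_self ha k)

theorem mem_four {S : Type} [Group S] {u s : S} (h : s = 1 ∨ s = u ∨ s = u ^ 2 ∨ s = u ^ 3) : s ∈ zpowers u := by
  rcases h with rfl | rfl | rfl | rfl
  · exact one_mem _
  · exact mem_zpowers _
  · exact pow_mem (mem_zpowers _) _
  · exact pow_mem (mem_zpowers _) _

/-! ### `A₇` -/

/-- an element of order four -/
def u7 : alternatingGroup (Fin 7) := ⟨swap (0 : Fin 7) 1 * swap (1 : Fin 7) 2 * (swap (2 : Fin 7) 3 * swap (4 : Fin 7) 5), Perm.mem_alternatingGroup.2 (by decide)⟩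
/-- an involution -/
def k7 : alternatingGroup (Fin 7) := ⟨swap (0 : Fin 7) 2 * swap (4 : Fin 7) 5, Perm.mem_alternatingGroup.2 (by decide)⟩
/-- a three-cycle -/
def a7 : alternatingGroup (Fin 7) := ⟨swap (0 : Fin 7) 1 * swap (1 : Fin 7) 2, Perm.mem_alternatingGroup.2 (by decide)⟩
/-- a three-cycle -/
def b7 : alternatingGroup (Fin 7) := ⟨swap (3 : Fin 7) 4 * swap (4 : Fin 7) 5, Perm.mem_alternatingGroup.2 (by decide)⟩

theorem cent7 : ∀ σ : Perm (Fin 7), σ * u7.1 = u7.1 * σ → Perm.sign σ = 1 →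
    σ = 1 ∨ σ = u7.1 ∨ σ = u7.1 ^ 2 ∨ σ = u7.1 ^ 3 := by (set_option synthInstance.maxSize 9000 in open scoped Cfsg.Agent.Lib.FastPerm in decide +kernel)

theorem card7 : Nat.card (alternatingGroup (Fin 7)) = 2520 := by
  rw [nat_card_alternatingGroup, Nat.card_eq_fintype_card, Fintype.card_fin]
  decide

/-- **`3.A₇`** -/
theorem smC_seven : S.SmC (alternatingGroup (Fin 7)) := by
  intro X _ _ φ hφ hk h3 hp _
  have h4 : u7 ^ 4 = 1 := by decide +kernel
  have hi : k7 * u7 * k7⁻¹ = u7⁻¹ := by decide +kernel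
  obtain ⟨T, h5, h6⟩ := exists_syl h4 (by decide +kernel) hi
  obtain ⟨x, y, c, hx, hy, hc, h7, h8⟩ := exists_comm φ hφ hk h3 hp (a := a7) (b := b7) (by decide +kernel)
    (by decide +kernel) (by decide +kernel) (by decide +kernel) (not_mem_zpowers (i := 3) (by decide) (by decide))
    (by rw [card7]; decide)
  refine sm_four φ hφ hk h3 T h5 h6 h4 (by decide +kernel) hi (fun s hs => mem_four ?_)
    (inn_of_inv φ hφ hk hp (β := MulAut.conjNormal (swap (1 : Fin 7) 2 : Perm (Fin 7))) (fun γ => ?_) (i := 2) (j := 1) ?_ ?_ hc h8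
      fun h => h7 (mul_eq_left.1 ((pow_two c).symm.trans h)))
  · simpa only [Subtype.ext_iff, Subgroup.coe_one, Subgroup.coe_pow] using cent7 s (congrArg Subtype.val hs) s.2
  · obtain ⟨σ, rfl⟩ := (S2119.result 7 (by norm_num) (by norm_num)).2 γ
    exact perm_cases (by decide) σ
  · rw [hx]
    exact Subtype.ext ((MulAut.conjNormal_apply _ _).trans (by decide +kernel))
  · rw [hy]
    exact Subtype.ext ((MulAut.conjNormal_apply _ _).trans (by decide +kernel))

/-! ### `A₆` -/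

open Cfsg.Agent.Lib.AltCarmichael Cfsg.Agent.LFourA.AltPsiAut

/-- the generators -/
def c6 : ℕ → A6
  | 0 => ⟨cyc 4 0, cyc_mem 4 0 (by norm_num)⟩
  | 1 => ⟨cyc 4 1, cyc_mem 4 1 (by norm_num)⟩
  | 2 => ⟨cyc 4 2, cyc_mem 4 2 (by norm_num)⟩
  | _ => ⟨cyc 4 3, cyc_mem 4 3 (by norm_num)⟩

/-- their images -/
def x6 : ℕ → A6
  | 0 => c6 3 * c6 2 * c6 0 * c6 1
  | 1 => c6 0 * c6 3 * c6 1 * c6 2
  | 2 => c6 1 * c6 0 * c6 2 * c6 3
  | _ => c6 2 * c6 1 * c6 3 * c6 0

/-- an element of order four -/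
def u6 : A6 := c6 0 * c6 2 * c6 1 * c6 3 * c6 2 * c6 0
/-- an involution -/
def k6 : A6 := c6 0 * c6 2 * c6 2 * c6 0
/-- a three-cycle -/
def a6 : A6 := c6 0 * c6 1 * c6 2 * c6 0 * c6 1
/-- an odd permutation -/
def t6 : Perm (Fin 6) := swap (2 : Fin 6) 3 * swap (3 : Fin 6) 4 * swap (4 : Fin 6) 5

theorem rel_x6 : Rel 4 x6 where
  cube := by decide +kernel
  sq := by (set_option synthInstance.maxSize 9000 in open scoped Cfsg.Agent.Lib.FastPerm in decide +kernel)

theorem ext6 {α β : MulAut A6} (h : ∀ i < 4, α (c6 i) = β (c6 i)) : α = β := by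
  have h1 : gen 4 (cyc 4) ≤ (MonoidHom.eqLocus α.toMonoidHom β.toMonoidHom).map (alternatingGroup (Fin 6)).subtype := by
    rw [gen_def, closure_le]
    rintro _ ⟨i, hi, rfl⟩
    refine ⟨c6 i, h i hi, ?_⟩
    interval_cases i <;> rfl
  rw [gen_cyc 4 (by norm_num)] at h1
  refine MulEquiv.ext fun x => ?_
  obtain ⟨y, hy, e⟩ := h1 x.2
  exact (show y = x from Subtype.ext e) ▸ hy

theorem exists_mu : ∃ μ : MulAut A6, ∀ i < 4, μ (c6 i) = x6 i := by
  obtain ⟨f, hf⟩ := Lib.AltCarmichael.exists_hom (m := 4) (by norm_num) rel_x6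
  have h1 : ∀ i < 4, f (c6 i) = x6 i := fun i hi => by
    rw [← hf i hi]
    interval_cases i <;> rfl
  have hs : IsSimpleGroup (alternatingGroup (Fin 6)) := alternatingGroup.isSimpleGroup (by simp)
  have h2 : Function.Injective f := by
    rw [← MonoidHom.ker_eq_bot_iff]
    refine (hs.eq_bot_or_eq_top_of_normal f.ker inferInstance).resolve_right fun h => ?_
    have h3 : f (c6 0) = 1 := h.ge (mem_top (c6 0))
    rw [h1 0 (by norm_num)] at h3
    exact absurd h3 (by decide +kernel)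
  exact ⟨MulEquiv.ofBijective f (Finite.injective_iff_bijective.1 h2), h1⟩

theorem cent6 : ∀ σ : Perm (Fin 6), σ * u6.1 ^ 2 = u6.1 ^ 2 * σ → Perm.sign σ = 1 →
    ∃ (i : Fin 4) (j : Fin 2), σ = u6.1 ^ (i : ℕ) * k6.1 ^ (j : ℕ) := by (set_option synthInstance.maxSize 9000 in open scoped Cfsg.Agent.Lib.FastPerm in decide +kernel)

theorem cent6' {s : A6} (h : s * u6 ^ 2 = u6 ^ 2 * s) : ∃ (i : Fin 4) (j : Fin 2), s = u6 ^ (i : ℕ) * k6 ^ (j : ℕ) := by
  have h1 := congrArg Subtype.val h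
  rw [Subgroup.coe_mul, Subgroup.coe_mul, Subgroup.coe_pow] at h1
  obtain ⟨i, j, e⟩ := cent6 s h1 s.2
  exact ⟨i, j, Subtype.ext (by rw [e, Subgroup.coe_mul, Subgroup.coe_pow, Subgroup.coe_pow])⟩

theorem card6' : Nat.card A6 = 360 := by
  rw [nat_card_alternatingGroup, Nat.card_eq_fintype_card, Fintype.card_fin]
  decide

theorem exists_syl6 : ∃ T : Sylow 2 A6, (T : Subgroup A6) = centralizer {u6 ^ 2} := by
  have h1 : Nat.card (centralizer ({u6 ^ 2} : Set A6)) = 2 ^ 3 := by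
    have h2 : ∀ p : Fin 4 × Fin 2, u6 ^ (p.1 : ℕ) * k6 ^ (p.2 : ℕ) * u6 ^ 2 = u6 ^ 2 * (u6 ^ (p.1 : ℕ) * k6 ^ (p.2 : ℕ)) := by
      (set_option synthInstance.maxSize 9000 in open scoped Cfsg.Agent.Lib.FastPerm in decide +kernel)
    have h3 : ∀ p q : Fin 4 × Fin 2, u6 ^ (p.1 : ℕ) * k6 ^ (p.2 : ℕ) = u6 ^ (q.1 : ℕ) * k6 ^ (q.2 : ℕ) → p = q := by
      (set_option synthInstance.maxSize 9000 in open scoped Cfsg.Agent.Lib.FastPerm in decide +kernel)
    rw [← Nat.card_eq_of_bijective (fun p : Fin 4 × Fin 2 => (⟨_, mem_centralizer_singleton_iff.2 (h2 p)⟩ :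
      centralizer ({u6 ^ 2} : Set A6))) ⟨fun p q e => h3 p q (congrArg Subtype.val e), fun s => ?_⟩]
    · simp
    · obtain ⟨i, j, e⟩ := cent6' (mem_centralizer_singleton_iff.1 s.2)
      exact ⟨(i, j), Subtype.ext e.symm⟩
  refine exists_sylow (IsPGroup.of_card h1) ?_
  have h2 := (centralizer ({u6 ^ 2} : Set A6)).index_mul_card
  rw [h1, card6'] at h2
  rw [show (centralizer ({u6 ^ 2} : Set A6)).index = 45 by omega]
  decide

/-- **`3.A₆`** -/
theorem smC_six : S.SmC (alternatingGroup (Fin 6)) := by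
  intro X _ _ φ hφ hk h3 hp _
  obtain ⟨μ, hμ⟩ := exists_mu
  have m0 := hμ 0 (by norm_num)
  have m1 := hμ 1 (by norm_num)
  have m2 := hμ 2 (by norm_num)
  have m3 := hμ 3 (by norm_num)
  have mu : μ u6 = u6⁻¹ := by
    rw [show u6 = c6 0 * c6 2 * c6 1 * c6 3 * c6 2 * c6 0 from rfl]
    simp only [map_mul, m0, m1, m2, m3]
    decide +kernel
  have mk : μ k6 = u6 * k6 := by
    conv_lhs => rw [show k6 = c6 0 * c6 2 * c6 2 * c6 0 from rfl]
    simp only [map_mul, m0, m2]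
    decide +kernel
  have ma : μ a6 = x6 0 * x6 1 * x6 2 * x6 0 * x6 1 := by
    rw [show a6 = c6 0 * c6 1 * c6 2 * c6 0 * c6 1 from rfl]
    simp only [map_mul, m0, m1, m2]
  have mm : μ * μ = MulAut.conj (u6 ^ 2) := ext6 fun i hi => by
    rw [MulAut.mul_apply, hμ i hi, MulAut.conj_apply]
    interval_cases i
    · rw [show x6 0 = c6 3 * c6 2 * c6 0 * c6 1 from rfl]
      simp only [map_mul, m0, m1, m2, m3]
      decide +kernel
    · rw [show x6 1 = c6 0 * c6 3 * c6 1 * c6 2 from rfl]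
      simp only [map_mul, m0, m1, m2, m3]
      decide +kernel
    · rw [show x6 2 = c6 1 * c6 0 * c6 2 * c6 3 from rfl]
      simp only [map_mul, m0, m1, m2, m3]
      decide +kernel
    · rw [show x6 3 = c6 2 * c6 1 * c6 3 * c6 0 from rfl]
      simp only [map_mul, m0, m1, m2, m3]
      decide +kernel
  have hN : μ ∉ NE := fun h => by
    have h2 := (mem_NE_iff.1 h).card_support
    rw [show u3 = a6 by decide +kernel, ma] at h2
    exact absurd h2 (by decide +kernel)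
  have h4 : u6 ^ 4 = 1 := by decide +kernel
  have h5 : ∀ s, μ (μ s) = u6 ^ 2 * s * (u6 ^ 2)⁻¹ := MulEquiv.congr_fun mm
  obtain ⟨T, hT⟩ := exists_syl6
  obtain ⟨x, y, c, hx, hy, hc, h7, h8⟩ := exists_comm φ hφ hk h3 hp (a := a6) (b := c6 3) (by decide +kernel)
    (by decide +kernel) (by decide +kernel) (by decide +kernel)
    (not_mem_zpowers (i := 3) (by decide +kernel) (by decide +kernel)) (by rw [card6']; decide)
  have key : ∀ (α : MulAut X) (s : A6) (ν : MulAut A6) (i j k l : ℕ), (∀ z ∈ center X, α z = z) →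
      (∀ g, φ (α g) = MulAut.conj s (ν (φ g))) → ν a6 = a6 ^ i * c6 3 ^ j → ν (c6 3) = a6 ^ k * c6 3 ^ l →
      c ^ (k * j + 1) = c ^ (i * l) := fun α s ν i j k l h1 h2 e1 e2 => by
    obtain ⟨g, rfl⟩ := hφ s
    have k2 : ∀ w, φ (((MulAut.conj g)⁻¹ * α) w) = ν (φ w) := fun w => by
      rw [MulAut.mul_apply, MulAut.conj_inv_apply, map_mul, map_mul, map_inv, h2, MulAut.conj_apply]
      group
    refine det_eq φ hk hc h8 (α := (MulAut.conj g)⁻¹ * α) ?_ (by rw [k2, hx, hy, e1]) (by rw [k2, hx, hy, e2])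
    rw [MulAut.mul_apply, h1 c hc, MulAut.conj_inv_apply, mul_assoc, ← mem_center_iff.1 hc g, inv_mul_cancel_left]
  have cn : ∀ α ∈ NE, ∃ σ : Perm (Fin 6), α = MulAut.conjNormal σ := fun α hα => by
    obtain ⟨σ, hσ⟩ := exists_perm hα
    exact ⟨σ, MulEquiv.ext fun w => Subtype.ext ((hσ w).trans (MulAut.conjNormal_apply _ _).symm)⟩
  refine sm_four_out φ hφ hk h3 T (u := u6) (k := k6) (hT ▸ mem_centralizer_singleton_iff.2 (by decide +kernel))
    (hT ▸ mem_centralizer_singleton_iff.2 (by decide +kernel)) h4 (by decide +kernel) (by decide +kernel)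
    (fun s hs => ?_) hp (μ := μ) (fun α hα => ?_) (fun s hs => ?_) mu h5 fun s hs => ?_
  · obtain ⟨i, j, rfl⟩ := cent6' (s := s) (Commute.pow_right hs 2)
    refine mem_four ?_
    revert i j
    (set_option synthInstance.maxSize 9000 in open scoped Cfsg.Agent.Lib.FastPerm in decide +kernel)
  · obtain ⟨γ, hγ⟩ := exists_ind φ hφ hk α
    by_cases h : γ ∈ NE
    · obtain ⟨σ, rfl⟩ := cn γ h
      obtain ⟨s, e | e⟩ := perm_cases (τ := swap (1 : Fin 6) 2) (by decide) σ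
      · exact ⟨s, Or.inl fun g => by rw [← hγ, e]⟩
      · have h9 := key α s (MulAut.conjNormal (swap (1 : Fin 6) 2 : Perm (Fin 6))) 2 0 0 1 hα (fun g => by rw [← hγ, e]; rfl)
          (Subtype.ext ((MulAut.conjNormal_apply _ _).trans (by decide +kernel)))
          (Subtype.ext ((MulAut.conjNormal_apply _ _).trans (by decide +kernel)))
        exact absurd (mul_eq_left.1 ((pow_two c).symm.trans (h9.symm.trans (pow_one c)))) h7
    · obtain ⟨σ, e0⟩ := cn _ (inv_mul_mem (α := γ⁻¹) (β := μ⁻¹) (fun e => h (inv_mem_iff.1 e))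
        fun e => hN (inv_mem_iff.1 e))
      rw [inv_inv, mul_inv_eq_iff_eq_mul] at e0
      obtain ⟨s, e | e⟩ := perm_cases (τ := t6) (by decide +kernel) σ
      · exact ⟨s, Or.inr fun g => by rw [← hγ, e0, e]; rfl⟩
      · have h9 := key α s (MulAut.conjNormal t6 * μ) 2 2 1 2 hα (fun g => by rw [← hγ, e0, e]; rfl)
          (by rw [MulAut.mul_apply, ma]; exact Subtype.ext ((MulAut.conjNormal_apply _ _).trans (by decide +kernel)))
          (by rw [MulAut.mul_apply, m3]; exact Subtype.ext ((MulAut.conjNormal_apply _ _).trans (by decide +kernel)))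
        exact absurd (mul_eq_left.1 ((pow_succ c 3).symm.trans h9.symm)) h7
  · rw [hT, mem_centralizer_singleton_iff] at hs ⊢
    have h9 := congrArg μ hs
    rwa [map_mul, map_mul, map_pow, mu, show u6⁻¹ ^ 2 = u6 ^ 2 by decide +kernel] at h9
  · have h9 := h5 s
    rw [hs, hs, eq_mul_inv_iff_mul_eq] at h9
    obtain ⟨i, j, rfl⟩ := cent6' h9
    rw [map_mul, map_pow, map_pow, mu, mk] at hs
    clear h9
    revert i j
    decide +kernel

end Cfsg.Agent.MK.A
end

-- part: MK/U43/Eight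
section
prune_inst 0x7f00000000000000000000000000000000000000000000000000000000000000000000000000000000000000000000000000000000000000000000000000000000000000000000000000000000000000003fffffffffffffffffffffffffffbeffbdffffffff
set_option linter.all false
open scoped Cfsg.Agent.FastGrp

/-!
# MK, the triple covers of `U₄(3)`: an outer element of order eight with a small centraliser (helper11)

* `exists_odd_cen` : over each character of a central subgroup of odd order there is a character of odd degree;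
* `eight` : eight characters of odd degree; `Cv.fA_four` : four fixed characters.
-/

set_option autoImplicit false
set_option maxHeartbeats 400000

namespace Cfsg.Agent.MK.U43

open Cfsg Subgroup Finset Cfsg.Agent.Characters.Core Cfsg.Agent.MK.T Cfsg.Agent.MK.A Cfsg.Agent.J3Type.CharTools
open scoped ComplexConjugate

variable {G : Type} [Group G]

theorem exists_odd_cen [Finite G] {Z : Subgroup G} (hZ : Z ≤ center G) (ho : Odd (Nat.card Z)) (m : Z →* ℂˣ) :
    ∃ χ : IrrCharacter G, Odd (charDegree (χ : G → ℂ)) ∧ ∀ z : Z, (χ : G → ℂ) z = m z * (χ : G → ℂ) 1 := by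
  have := two_prime
  have := Fintype.ofFinite G
  have := Fintype.ofFinite Z
  have : Z.Normal := ⟨fun n hn g => by rwa [mem_center_iff.1 (hZ hn), mul_inv_cancel_right]⟩
  obtain ⟨χ, h1, h2⟩ := H699.OverLin.exists_over_inv (p := 2) Z ho.not_two_dvd_nat default
    ⟨_, Characters.Linear.isIrrCharacter_hom m⟩ fun s _ g g' e => by
      rw [show g' = g from Subtype.ext (by rw [e, mem_center_iff.1 (hZ g.2), mul_inv_cancel_right])]
  obtain ⟨c, hc, -⟩ := CharactersDeep.Extraspecial.exists_central_hom χ.2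
  have h3 : ∀ z : Z, (χ : G → ℂ) z = (χ : G → ℂ) 1 * (c.comp (inclusion hZ) z : ℂ) := fun z => by
    rw [MonoidHom.comp_apply, ← hc 1, one_mul]
    rfl
  refine ⟨χ, Nat.odd_iff.2 (Nat.two_dvd_ne_zero.1 h1), fun z => ?_⟩
  by_contra h4
  refine h2 ?_
  rw [show (fun n : Z => (χ : G → ℂ) n) = (χ : G → ℂ) 1 • fun n => (c.comp (inclusion hZ) n : ℂ) from funext h3,
    classInner_smul_left, classInner_irr_ne (Characters.Linear.isIrrCharacter_hom _)
      (Characters.Linear.isIrrCharacter_hom m) fun e => h4 (by rw [h3, congrFun e z, mul_comm]), mul_zero]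

theorem eight_aux {ι : Type} [DecidableEq ι] (s : Finset ι) (v : ι → ℤ) (h1 : ∑ i ∈ s, v i * v i = 8)
    (h2 : ∀ i ∈ s, ∃ j ∈ s, v j = -v i) (h0 : ∃ i ∈ s, Odd (v i)) : (s.filter fun i => Odd (v i)).card = 8 := by
  have h3 : ∀ i ∈ s, v i * v i ≤ 1 := fun i hi => by
    by_contra h
    obtain ⟨j, hj, e⟩ := h2 i hi
    obtain ⟨k, hk, c, hc⟩ := h0
    have h4 : 2 ≤ v i ∨ v i ≤ -2 := by
      by_contra h5
      rcases (by omega : v i = -1 ∨ v i = 0 ∨ v i = 1) with h6 | h6 | h6 <;> rw [h6] at h <;> omega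
    have h5 : i ≠ j := fun e' => by
      rw [← e'] at e
      omega
    have h6 : ∀ t ⊆ s, ∑ i ∈ t, v i * v i ≤ 8 := fun t ht =>
      h1 ▸ Finset.sum_le_sum_of_subset_of_nonneg ht fun _ _ _ => mul_self_nonneg _
    have h7 := h6 {i, j} (Finset.insert_subset hi (Finset.singleton_subset_iff.2 hj))
    rw [Finset.sum_pair h5, e] at h7
    have h8 : v i = 2 ∨ v i = -2 := by
      rcases h4 with h4 | h4
      · exact Or.inl (le_antisymm (by nlinarith) h4)
      · exact Or.inr (le_antisymm h4 (by nlinarith))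
    have h9 := h6 {k, i, j} (Finset.insert_subset hk (Finset.insert_subset hi (Finset.singleton_subset_iff.2 hj)))
    rw [Finset.sum_insert (by
      rw [Finset.mem_insert, Finset.mem_singleton]
      rintro (rfl | rfl) <;> omega), Finset.sum_pair h5, e] at h9
    have h10 : 0 < v k * v k := mul_self_pos.2 (by omega)
    rcases h8 with h8 | h8 <;> rw [h8] at h9 <;> omega
  rw [Finset.sum_congr rfl (g := fun i => if Odd (v i) then 1 else 0), Finset.sum_boole] at h1
  · exact_mod_cast h1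
  · intro i hi
    have h4 := h3 i hi
    have h5 : -1 ≤ v i := by nlinarith
    have h6 : v i ≤ 1 := by nlinarith
    generalize v i = x at h5 h6
    interval_cases x <;> decide

/-- **eight characters of odd degree** -/
theorem eight [Finite G] {Z L : Subgroup G} (hZ : Z ≤ center G) (h3 : Nat.card Z = 3) (hL : L.index = 2) (hZL : Z ≤ L)
    (m : Z →* ℂˣ) {u : G} (hu : u ∉ L) (h8 : u ^ 8 = 1) (k3 : IsConj u (u ^ 3)) (k5 : IsConj u (u ^ 5))
    (hC : Nat.card (centralizer ({u} : Set G)) = 8 * Nat.card Z) :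
    Nat.card {χ : G → ℂ // OI G χ ∧ ∀ z : Z, χ z = m z * χ 1} = 8 := by
  classical
  have := finite_irr (G := G)
  have := Fintype.ofFinite (IrrCharacter G)
  have := Fintype.ofFinite Z
  have hv : ∀ χ : IrrCharacter G, ∃ v : ℤ, (χ : G → ℂ) u = v := fun χ =>
    int_of_conj (isIrr_isCharacter χ.2) u fun n hn => by
      have h2 : n % 2 = 1 := by
        obtain ⟨j, -, hj⟩ := (Nat.dvd_prime_pow Nat.prime_two (m := 3)).1 (orderOf_dvd_of_pow_eq_one h8)
        rcases j with _ | j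
        · exact absurd (orderOf_eq_one_iff.1 hj ▸ one_mem L) hu
        · rw [hj] at hn
          exact Nat.odd_iff.1 (Nat.coprime_two_right.1 (hn.coprime_dvd_right (dvd_pow_self 2 j.succ_ne_zero)))
      rw [pow_eq_pow_mod n h8]
      rcases (by omega : n % 8 = 1 ∨ n % 8 = 3 ∨ n % 8 = 5 ∨ n % 8 = 7) with h | h | h | h <;> rw [h]
      · rw [pow_one]
      · exact k3
      · exact k5
      · have k := k3.pow 5
        rw [← pow_mul, pow_eq_pow_mod (3 * 5) h8] at k
        exact k5.trans k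
  choose v hv using hv
  have key : ∀ z : Z, IsConj (z * u) u → z = 1 := fun z h => by
    obtain ⟨c, e⟩ := isConj_iff.1 h
    have k : z ^ 3 = 1 := h3 ▸ pow_card_eq_one'
    have k' : (c * (z * u) * c⁻¹) ^ 8 = 1 := e.symm ▸ h8
    rw [conj_pow, mul_inv_eq_one, mul_eq_left, Commute.mul_pow (mem_center_iff.1 (hZ z.2) u).symm, h8, mul_one] at k'
    rw [← one_mul z, ← show z ^ 8 = 1 from Subtype.ext k', ← pow_succ, show 8 + 1 = 3 * 3 from rfl, pow_mul, k, one_pow,
      show z ^ 8 = 1 from Subtype.ext k']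
  have hc : (Nat.card Z : ℂ) ≠ 0 := Nat.cast_ne_zero.2 Nat.card_pos.ne'
  have k1 := rel_orth hZ m u u
  rw [Finset.sum_eq_single (1 : Z) (fun z _ hz => by rw [if_neg fun h => hz (key z h), mul_zero])
    (fun h => absurd (mem_univ _) h), Subgroup.coe_one, one_mul, if_pos (IsConj.refl u), map_one, inv_one, Units.val_one,
    one_mul, hC, Nat.cast_mul, mul_comm _ (Nat.card Z : ℂ), ← Finset.sum_filter] at k1
  let μ : G →* ℂˣ := MonoidHom.mk' (fun g => if g ∈ L then 1 else -1) fun a b => by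
    rw [mul_mem_iff_of_index_two hL]
    by_cases ha : a ∈ L <;> by_cases hb : b ∈ L <;> simp [ha, hb]
  have m1 : ∀ g ∈ L, μ g = 1 := fun g hg => if_pos hg
  have m2 : μ u = -1 := if_neg hu
  have k4 := eight_aux (univ.filter fun χ : IrrCharacter G => ∀ z : Z, (χ : G → ℂ) z = m z * (χ : G → ℂ) 1) v (by
      have h5 := mul_left_cancel₀ hc k1
      rw [Finset.sum_congr rfl fun χ _ => by rw [hv χ, map_intCast]] at h5
      exact_mod_cast h5)
    (fun χ hχ => ⟨⟨_, ODD.Red.isIrr_lin_mul μ χ.2⟩, Finset.mem_filter.2 ⟨mem_univ _, fun z => by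
      show (μ z : ℂ) * _ = _ * ((μ 1 : ℂ) * _)
      rw [m1 _ (hZL z.2), map_one, Units.val_one, one_mul, one_mul]
      exact (Finset.mem_filter.1 hχ).2 z⟩, by
      apply Int.cast_injective (α := ℂ)
      rw [← hv, Int.cast_neg, ← hv]
      show (μ u : ℂ) * _ = _
      rw [m2, Units.val_neg, Units.val_one, neg_one_mul]⟩) (by
      obtain ⟨χ, e1, e2⟩ := exists_odd_cen hZ (by rw [h3]; decide) m
      exact ⟨χ, Finset.mem_filter.2 ⟨mem_univ _, e2⟩, (par (isIrr_isCharacter χ.2) (j := 3) h8 (hv χ)).1 e1⟩)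
  rw [Finset.filter_filter, ← Fintype.card_subtype, ← Nat.card_eq_fintype_card] at k4
  rw [← k4]
  exact Nat.card_congr ⟨fun χ => ⟨⟨χ.1, χ.2.1.1⟩, χ.2.2,
      (par (isIrr_isCharacter χ.2.1.1) (j := 3) h8 (hv ⟨χ.1, χ.2.1.1⟩)).1 χ.2.1.2⟩,
    fun χ => ⟨χ.1.1, ⟨χ.1.2, (par (isIrr_isCharacter χ.1.2) (j := 3) h8 (hv χ.1)).2 χ.2.2⟩, χ.2.1⟩,
    fun _ => rfl, fun _ => rfl⟩

variable {X S : Type} [Group X] [Group S] {φ : X →* S}

/-- **four fixed characters** -/
theorem Cv.fA_four [Finite X] (h : Cv φ) {α : MulAut X} {q : MulAut S} (hα : ∀ x, φ (α x) = q (φ x))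
    (hz : ∀ z ∈ center X, α z = z) {t k k' : S} (h1 : ∀ s, q (q s) = t * s * t⁻¹) (h4 : t ^ 4 = 1) (h2 : t ^ 2 ≠ 1)
    (ht : q t = t) (hC : ∀ s, q s = s → s ∈ zpowers t) (hk : k = t * q k) (hk' : k' = t * t * q k') {l : X → ℂ}
    {m : center X →* ℂˣ} (hm : ∀ z : center X, l z = m z) : fA l α = 4 := by
  have := two_prime
  obtain ⟨t, t4, rfl⟩ := lift_four φ h.surj h.ker h.card h4
  have t1 : α t = t := eq_of_four φ h.ker h.card (by rw [← map_pow, t4, map_one]) t4 (by rw [hα, ht])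
  have t2 := eq_one_of_ind φ h.ker h.perf (α := (MulAut.conj t)⁻¹ * (α * α)) fun x => by
    rw [MulAut.mul_apply, MulAut.conj_inv_apply, map_mul, map_mul, MulAut.mul_apply, hα, hα, h1, map_inv]
    group
  obtain ⟨W, _, _, j, a, hj, hi, ha, hβ, ha2⟩ := exists_two (β := α) (t := t)
    (fun x => MulEquiv.congr_fun (inv_mul_eq_one.1 t2).symm x) t1
  have := normal_of_index_eq_two hi
  have hca : ∀ x, j x * a = a * j x ↔ α x = x := fun x => by
    rw [← hj.eq_iff, hβ, mul_inv_eq_iff_eq_mul, eq_comm]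
  have hZ' : (center X).map j ≤ center W := by
    rintro _ ⟨z, hz', rfl⟩
    refine mem_center_iff.2 fun w => ?_
    by_cases e : w ∈ j.range
    · obtain ⟨x, rfl⟩ := e
      rw [← map_mul, ← map_mul, mem_center_iff.1 hz']
    · obtain ⟨x, e'⟩ := (mul_mem_iff_of_index_two hi).2 (iff_of_false e fun e4 => ha (inv_mem_iff.1 e4))
      rw [← inv_mul_cancel_right w a, ← e', mul_assoc, ← (hca z).2 (hz z hz'), ← mul_assoc, ← mul_assoc, ← map_mul,
        ← map_mul, mem_center_iff.1 hz']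
  have h8 : a ^ 8 = 1 := by rw [show 8 = 2 * 4 from rfl, pow_mul, pow_two, ha2, ← map_pow, t4, map_one]
  have hc : ∀ (n : ℕ) (k : S), k = φ t ^ n * q k → IsConj a (a ^ (2 * n + 1)) := fun n k e => by
    obtain ⟨k, rfl⟩ := h.surj k
    have k0 : k * (t ^ n * α k)⁻¹ ∈ center X := by
      rw [← h.ker, MonoidHom.mem_ker, map_mul, map_inv, map_mul, map_pow, hα, ← e, mul_inv_cancel]
    have k1 : j k * a * (j k)⁻¹ = j (k * (t ^ n * α k)⁻¹) * a ^ (2 * n + 1) := by
      rw [pow_succ, pow_mul, pow_two, ha2, ← mul_assoc, ← map_pow, ← map_mul, ← mem_center_iff.1 k0,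
        show t ^ n * (k * (t ^ n * α k)⁻¹) = t ^ n * (k * (α k)⁻¹ * (t ^ n)⁻¹) by group,
        show k * (α k)⁻¹ = k * (t ^ n * α k)⁻¹ * t ^ n by group, ← mem_center_iff.1 k0,
        show t ^ n * (t ^ n * (k * (t ^ n * α k)⁻¹) * (t ^ n)⁻¹) = t ^ n * (t ^ n * (k * (t ^ n * α k)⁻¹)) * (t ^ n)⁻¹
          by group, mem_center_iff.1 k0, ← mul_assoc (t ^ n), mul_assoc _ (t ^ n), mul_inv_cancel, mul_one,
        mem_center_iff.1 k0, show k * (t ^ n * α k)⁻¹ * t ^ n = k * (α k)⁻¹ by group, map_mul, map_inv, hβ]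
      group
    have k2 := congrArg (· ^ 8) k1
    simp only [conj_pow, h8, mul_one, mul_inv_cancel] at k2
    rw [Commute.mul_pow (mem_center_iff.1 (hZ' (mem_map_of_mem j k0)) _).symm, ← pow_mul, mul_comm _ 8, pow_mul, h8,
      one_pow, mul_one, ← map_pow, eq_comm, map_eq_one_iff j hj] at k2
    have k3 := cen_cube h.card k0
    refine isConj_iff.2 ⟨j k, ?_⟩
    rw [k1, ← pow_one (k * _), ← one_mul (_ ^ 1), ← k2, ← pow_add, show 8 + 1 = 3 * 3 from rfl, pow_mul, k3, one_pow,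
      map_one, one_mul]
  let e := equivMapOfInjective (center X) j hj
  have h6 : Nat.card (centralizer ({a} : Set W)) = 8 * Nat.card ((center X).map j) := by
    let F := α.toMonoidHom.eqLocus (MonoidHom.id X)
    let ρ := φ.comp F.subtype
    have k5 : ρ.range = zpowers (φ t) := le_antisymm (by
      rintro _ ⟨x, rfl⟩
      exact hC _ ((hα x).symm.trans (congrArg φ x.2))) (zpowers_le.2 ⟨⟨t, t1⟩, rfl⟩)
    have k6 : orderOf (φ t) = 2 ^ (1 + 1) := orderOf_eq_prime_pow h2 h4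
    have k7 : Nat.card F = 4 * Nat.card (center X) := by
      rw [← ρ.ker.index_mul_card, index_ker, k5, Nat.card_zpowers, k6, ← h.ker]
      exact congrArg (4 * ·) (Nat.card_congr (subgroupOfEquivOfLe (H := φ.ker) (K := F) fun z hz' =>
        hz z (h.ker.le hz')).toEquiv)
    have k8 : (j.range.subgroupOf (centralizer ({a} : Set W))).index = 2 :=
      index_eq_two_iff.2 ⟨⟨a, mem_centralizer_singleton_iff.2 rfl⟩, fun b => by
        rw [mem_subgroupOf, mem_subgroupOf, Subgroup.coe_mul, mul_mem_iff_of_index_two hi]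
        unfold Xor
        tauto⟩
    rw [← (j.range.subgroupOf (centralizer ({a} : Set W))).index_mul_card, k8, ← Nat.card_congr e.toEquiv,
      show 8 = 2 * 4 from rfl, mul_assoc, ← k7]
    refine congrArg (2 * ·) (Nat.card_eq_of_bijective (fun x : F =>
      (⟨⟨j x, mem_centralizer_singleton_iff.2 ((hca x).2 x.2)⟩, x, rfl⟩ : j.range.subgroupOf _)) ⟨fun x y e' => ?_, ?_⟩).symm
    · exact Subtype.ext (hj (congrArg (fun w : j.range.subgroupOf (centralizer ({a} : Set W)) => (w.1.1 : W)) e'))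
    · rintro ⟨⟨w, hw⟩, x, hx⟩
      have hx' : j x = w := hx
      exact ⟨⟨x, (hca x).1 (hx'.symm ▸ mem_centralizer_singleton_iff.1 hw)⟩, Subtype.ext (Subtype.ext hx')⟩
  have h7 := eight hZ' ((Nat.card_congr e.toEquiv).symm.trans h.card) hi (map_le_range j _)
    (m.comp e.symm.toMonoidHom) ha h8 (hc 1 k (by rwa [pow_one])) (hc 2 k' (by rwa [pow_two])) h6
  have hp : ∀ χ : W → ℂ, (∀ z : (center X).map j, χ z = (m.comp e.symm.toMonoidHom) z * χ 1) ↔
      ∀ z : center X, χ (j z) = m z * χ 1 :=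
    fun χ => ⟨fun h z => (h (e z)).trans (congrArg (fun y => ((m y : ℂˣ) : ℂ) * χ 1) (e.symm_apply_apply z)), fun h z => by
      obtain ⟨z, rfl⟩ := e.surjective z
      exact (h z).trans (congrArg (fun y => ((m y : ℂˣ) : ℂ) * χ 1) (e.symm_apply_apply z)).symm⟩
  rw [card_two_res hi ha (q := fun θ => ∀ z : center X, θ ⟨j z, z, rfl⟩ = m z * θ 1) fun χ θ h => by
    rw [hp, ← h 1]
    exact forall_congr' fun z => by rw [← h]; rfl] at h7
  refine Nat.eq_of_mul_eq_mul_left two_pos (Eq.trans ?_ h7)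
  congr 1
  refine Eq.trans (Nat.card_congr (Equiv.subtypeEquivRight fun θ => and_congr_right fun _ => and_congr_left fun _ =>
    (⟨fun e z => hm z ▸ e z z.2, fun e z hz => (hm ⟨z, hz⟩).symm ▸ e ⟨z, hz⟩⟩ :
      _ ↔ ∀ z : center X, θ z = m z * θ 1))) ?_
  refine card_congr (MonoidHom.ofInjective hj) fun θ _ => and_congr (forall_congr' fun z => ?_)
    ⟨fun h y => ?_, fun h x => ?_⟩
  · show θ (MonoidHom.ofInjective hj z) = m z * θ (MonoidHom.ofInjective hj 1) ↔ _
    rw [map_one]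
    rfl
  · obtain ⟨x, rfl⟩ := (MonoidHom.ofInjective hj).surjective y
    exact (congrArg θ (Subtype.ext (hβ x).symm)).trans (h x)
  · exact (congrArg θ (Subtype.ext (hβ x))).trans (h _)

end Cfsg.Agent.MK.U43
end
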